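import Groth.Agent.H25Par.EulerMono
import Groth.Agent.LeadProper.Supp
import Groth.Agent.H17.SuppTensor
import Groth.Prelude.Def_ParBun2
import Groth.Prelude.Def_FGA

/-! # The kernel of the restriction of a full rank submodule to a divisor -/

set_option autoImplicit false

universe u

open CategoryTheory CategoryTheory.Limits AlgebraicGeometry TopologicalSpace

namespace Groth.Agent.H25Par

attribute [local instance 10000] H10Coh.hasSheafifyAb H10Coh.hasWeakSheafifyAb H10Coh.hasExtAb H10Coh.enoughInjAb

variable {k : Type u} [Field k] {X : Scheme.{u}} [X.Over (Spec (CommRingCat.of k))]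

theorem hhlin_surjective {S : ShortComplex X.Modules} (hS : S.ShortExact) (h : Subsingleton (Coh.HH X S.X₁ 1)) :
    Function.Surjective (Canon.HHlin k S.g 0) := fun x =>
  Abelian.Ext.covariant_sequence_exact₃ _ (H10Coh.shortExact_sh hS) x (n₁ := 1) rfl (h.elim _ _)

set_option backward.isDefEq.respectTransparency false in
theorem hhlin_exact {S : ShortComplex X.Modules} (hS : S.ShortExact) :
    LinearMap.ker (Canon.HHlin k S.g 0) = LinearMap.range (Canon.HHlin k S.f 0) := by
  refine le_antisymm (fun x hx => Abelian.Ext.covariant_sequence_exact₂ _ (H10Coh.shortExact_sh hS) x hx) ?_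
  rintro _ ⟨x, rfl⟩
  show Sheaf.H.map _ 0 (Sheaf.H.map _ 0 x) = 0
  rw [← Sheaf.H.map_comp_apply, ← Functor.map_comp, S.zero, Functor.map_zero]
  show x.comp (Abelian.Ext.mk₀ _) (add_zero 0) = 0
  rw [Abelian.Ext.mk₀_zero, Abelian.Ext.comp_zero]

set_option backward.isDefEq.respectTransparency false in
theorem hhlin_comp {F G H : X.Modules} (φ : F ⟶ G) (ψ : G ⟶ H) (n : ℕ) :
    Canon.HHlin k (φ ≫ ψ) n = Canon.HHlin k ψ n ∘ₗ Canon.HHlin k φ n :=
  LinearMap.ext fun x => by
    show Sheaf.H.map _ n x = Sheaf.H.map _ n (Sheaf.H.map _ n x)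
    rw [Functor.map_comp, Sheaf.H.map_comp_apply]

theorem subsingleton_stalk_of_mono {F G : X.Modules} (φ : F ⟶ G) [Mono φ] {y : X}
    (h : Subsingleton (G.presheaf.stalk y)) : Subsingleton (F.presheaf.stalk y) := by
  haveI : Mono ((DerSch.stalkFunctor X y).map φ) := inferInstance
  haveI : Subsingleton ((DerSch.stalkFunctor X y).obj G) := h
  exact ((ModuleCat.mono_iff_injective _).1 (inferInstance : Mono ((DerSch.stalkFunctor X y).map φ))).subsingleton

theorem subsingleton_stalk_of_epi {F G : X.Modules} (φ : F ⟶ G) [Epi φ] {y : X}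
    (h : Subsingleton (F.presheaf.stalk y)) : Subsingleton (G.presheaf.stalk y) := by
  haveI : Subsingleton ((DerSch.stalkFunctor X y).obj F) := h
  exact ((ModuleCat.epi_iff_surjective _).1 (inferInstance : Epi ((DerSch.stalkFunctor X y).map φ))).subsingleton

set_option backward.isDefEq.respectTransparency false in
/-- `coker i → coker (i ⊗ O_D)`, an epimorphism. -/
theorem exists_epi {F E : X.Modules} (i : F ⟶ E) (I : X.IdealSheafData) :
    ∃ γ : cokernel i ⟶ cokernel (ParSh.resDMap I i), Epi γ := by
  haveI := H10Coh.epi_toSubscheme I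
  let T := (DCoh.tensorBi (X := X)).flip.obj (ClSub.quotMod I)
  haveI : PreservesColimit (parallelPair i 0) T :=
    haveI := preservesColimitsOfSize_shrink.{0, u, 0, u} T
    inferInstance
  let B := (DCoh.tensorBi (X := X)).obj (cokernel i)
  haveI : PreservesColimitsOfSize.{0, 0} B := preservesColimitsOfSize_shrink.{0, u, 0, u} B
  haveI : Epi (B.map (ClSub.toSubscheme I)) := inferInstance
  haveI : Epi (H25Euler.mulHom (cokernel i) (ClSub.toSubscheme I)) := by
    unfold H25Euler.mulHom
    infer_instance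
  have e1 : ParSh.resDMap I i = T.map i := by
    show ((DCoh.tensorBi (X := X)).map i).app _ ≫ ((DCoh.tensorBi (X := X)).obj E).map (𝟙 _) = _
    rw [CategoryTheory.Functor.map_id, Category.comp_id]
    rfl
  let e : CohB1.tensorMod (cokernel i) (ClSub.quotMod I) ≅ cokernel (ParSh.resDMap I i) :=
    eqToIso (H25Euler.tensorBi_obj_obj (cokernel i) _).symm ≪≫ PreservesCokernel.iso T i ≪≫
      cokernelIsoOfEq e1.symm
  exact ⟨H25Euler.mulHom (cokernel i) (ClSub.toSubscheme I) ≫ e.hom, inferInstance⟩

variable [IsProper (X ↘ Spec (CommRingCat.of k))] [IsIntegral X]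

theorem genericPoint_notMem {I : X.IdealSheafData} (hD : FGA.IsEffCartier I) :
    genericPoint X ∉ (I.support : Set X) := by
  obtain ⟨U, hxU, a, ha, hI⟩ := hD (genericPoint X)
  haveI : Nonempty (U : X.Opens) := ⟨⟨_, hxU⟩⟩
  intro hmem
  have h1 : genericPoint X ∈ X.zeroLocus (U := U.1) (I.ideal U : Set Γ(X, U)) :=
    ((Scheme.IdealSheafData.coe_support_inter I U).le ⟨hmem, hxU⟩).1
  rw [hI, Scheme.zeroLocus_span, Scheme.zeroLocus_singleton] at h1
  have hne : a ≠ 0 := nonZeroDivisors.ne_zero ha
  refine h1 ?_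
  refine ((genericPoint_spec X).mem_open_set_iff (X.basicOpen a).isOpen).2 ?_
  simpa using Set.nonempty_iff_ne_empty.2 fun h => hne ((basicOpen_eq_bot_iff a).1 (Opens.ext h))

theorem finite_of_isClosed_of_notMem (hdim : topologicalKrullDim X ≤ 1) [IsNoetherian X] {S : Set X}
    (hS : IsClosed S) (hg : genericPoint X ∉ S) : S.Finite ∧ ∀ z ∈ S, IsClosed ({z} : Set X) := by
  haveI : QuasiSober S := hS.isClosedEmbedding_subtypeVal.quasiSober
  haveI : CompactSpace S := isCompact_iff_compactSpace.mp hS.isCompact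
  haveI : NoetherianSpace S := Topology.IsInducing.subtypeVal.noetherianSpace
  have hd := H25Euler.dim_lt_of_forall_ne S hS (fun y _ => ⟨genericPoint X, genericPoint_specializes y, hg⟩)
    (d := 1) (lt_of_le_of_lt hdim (by norm_num))
  have hd0 : topologicalKrullDim S ≤ 0 := by
    generalize topologicalKrullDim S = D at hd
    induction D using WithBot.recBotCoe with
    | bot => exact bot_le
    | coe a =>
      induction a using ENat.recTopCoe with
      | top => exact absurd hd (by simp)
      | coe a =>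
        have : a < 1 := by exact_mod_cast hd
        obtain rfl : a = 0 := by omega
        exact le_rfl
  haveI := (H28Top.finite_discrete_of_dim_le_zero hd0).1
  refine ⟨Set.toFinite S, fun z hz => ?_⟩
  have h1 := H28Top.isClosed_singleton_of_dim_le_zero hd0 (⟨z, hz⟩ : S)
  simpa using (hS.isClosedEmbedding_subtypeVal.isClosed_iff_image_isClosed).1 h1

theorem finrank_range_le_of_epi {C Q : X.Modules} (hC : Coh.IsCoh C) (γ : C ⟶ Q) [Epi γ]
    (hfin : (CohB1.support C).Finite) (hcl : ∀ z ∈ CohB1.support C, IsClosed ({z} : Set X))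
    {W : Type u} [AddCommGroup W] [Module k W] (g : W →ₗ[k] Coh.HH X Q 0) :
    Module.finrank k (LinearMap.range g) ≤ Module.finrank k (Coh.HH X C 0) := by
  haveI : IsLocallyNoetherian X := LocallyOfFiniteType.isLocallyNoetherian (X ↘ Spec (CommRingCat.of k))
  haveI : Module.Finite k (Coh.HH X C 0) := H10Coh.finite_HH_proper k X C hC 0
  have hS₃ : (ShortComplex.mk (kernel.ι γ) γ (kernel.condition _)).ShortExact :=
    { exact := ShortComplex.exact_kernel _ }
  have hv : Subsingleton (Coh.HH X (kernel γ) 1) := subsingleton_HH_of_finite_support _ hfin hcl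
    (fun y hy => subsingleton_stalk_of_mono (kernel.ι γ) (not_not.1 hy)) Nat.one_pos
  have hsurj : Function.Surjective (Canon.HHlin k γ 0) :=
    hhlin_surjective (k := k) (S := ShortComplex.mk (kernel.ι γ) γ (kernel.condition _)) hS₃ hv
  haveI : Module.Finite k (Coh.HH X Q 0) := Module.Finite.of_surjective _ hsurj
  exact (Submodule.finrank_le _).trans (LinearMap.finrank_le_finrank_of_surjective hsurj)

theorem euler_sub_eq_h0 {F E : X.Modules} (hFc : Coh.IsCoh F) (hEc : Coh.IsCoh E) (i : F ⟶ E)
    (hC : Coh.IsCoh (cokernel i)) [Mono i] (hTfin : (CohB1.support (cokernel i)).Finite)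
    (hTcl : ∀ z ∈ CohB1.support (cokernel i), IsClosed ({z} : Set X)) :
    Curv2.euler k X E - Curv2.euler k X F = (Module.finrank k (Coh.HH X (cokernel i) 0) : ℤ) := by
  have hSE : (ShortComplex.mk i (cokernel.π i) (cokernel.condition _)).ShortExact :=
    { exact := ShortComplex.exact_cokernel _ }
  have hadd := H25Euler.euler_add (k := k) (S := ShortComplex.mk i (cokernel.π i) (cokernel.condition _))
    hSE hFc hEc hC
  dsimp only at hadd
  have hv : ∀ p, 1 ≤ p → Subsingleton (Coh.HH X (cokernel i) p) := fun p hp =>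
    subsingleton_HH_of_finite_support _ hTfin hTcl (fun y hy => not_not.1 hy) hp
  rw [hadd, add_sub_cancel_left, H25Euler.euler_eq_sum _ 1 hv, Finset.sum_range_one, pow_zero, one_mul]

set_option maxHeartbeats 800000 in
/-- `dim ker (F ⊗ O_D → E ⊗ O_D) ≤ χ(E) - χ(F)` on global sections. -/
theorem finrank_ker_fibDMap_le (hdim : topologicalKrullDim X ≤ 1) {F E : X.Modules} {n : ℕ}
    (hF : FlatMod.IsFinLocFreeOfRank n F) (hE : FlatMod.IsFinLocFreeOfRank n E) (i : F ⟶ E) [Mono i]
    (I : X.IdealSheafData) (hD : FGA.IsEffCartier I) [Module.Finite k (ParSh.fibD X I F)]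
    [Module.Finite k (ParSh.fibD X I E)]
    (heq : Module.finrank k (ParSh.fibD X I F) = Module.finrank k (ParSh.fibD X I E)) :
    (Module.finrank k (LinearMap.ker (ParSh.fibDMap k X I i)) : ℤ) ≤
      Curv2.euler k X E - Curv2.euler k X F := by
  haveI : IsLocallyNoetherian X := LocallyOfFiniteType.isLocallyNoetherian (X ↘ Spec (CommRingCat.of k))
  haveI : CompactSpace X := QuasiCompact.compactSpace_of_compactSpace (X ↘ Spec (CommRingCat.of k))
  haveI : IsNoetherian X := ⟨⟩
  have hff : FlatMod.IsFinLocFree F := fun y => let ⟨U, hU⟩ := hF y; ⟨U, n, hU⟩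
  have hfe : FlatMod.IsFinLocFree E := fun y => let ⟨U, hU⟩ := hE y; ⟨U, n, hU⟩
  have hFc : Coh.IsCoh F := H16Derived.KFlat.Stalk.isCoh_of_isFinLocFree hff
  have hEc : Coh.IsCoh E := H16Derived.KFlat.Stalk.isCoh_of_isFinLocFree hfe
  have hC := H10Coh.isCoh_cokernel i hFc.1 hEc
  -- the finite sets carrying everything
  obtain ⟨hSfin, hScl⟩ := finite_of_isClosed_of_notMem hdim I.support.isClosed (genericPoint_notMem hD)
  obtain ⟨hTfin, hTcl⟩ := finite_of_isClosed_of_notMem hdim (H10Coh.isClosed_support _ hC.2)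
    (notMem_support_coker hF hE i)
  have hQ : ∀ y, y ∉ (I.support : Set X) → Subsingleton ((ClSub.quotMod I).presheaf.stalk y) := fun y hy => by
    by_contra h
    have := LeadProper.support_subset_range (F := ClSub.quotMod I) (@H10Coh.isQuasicoherent_pushforward _ _ I.subschemeι inferInstance inferInstance _ H10Coh.isQuasicoherent_unit) I.subschemeι (Iso.refl _) h
    rw [Scheme.IdealSheafData.range_subschemeι] at this
    exact hy this
  have hres : ∀ (M : X.Modules) y, y ∉ (I.support : Set X) →
      Subsingleton ((ParSh.resD I M).presheaf.stalk y) := fun M y hy => by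
    haveI := hQ y hy
    haveI : Subsingleton (TensorProduct (X.presheaf.stalk y) (M.presheaf.stalk y)
        ((ClSub.quotMod I).presheaf.stalk y)) := subsingleton_of_forall_eq 0 fun t => by
      induction t using TensorProduct.induction_on with
      | zero => rfl
      | tmul a b => rw [Subsingleton.elim b 0, TensorProduct.tmul_zero]
      | add a b ha hb => rw [ha, hb, add_zero]
    exact (H16Derived.KFlat.Stalk.stalkEquiv M (ClSub.quotMod I) y).symm.toEquiv.subsingleton
  let ψ := ParSh.resDMap I i
  -- the image and the cokernel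
  let S₁ := ShortComplex.mk (kernel.ι ψ) (Abelian.factorThruImage ψ)
    (by rw [← cancel_mono (Abelian.image.ι ψ), Category.assoc, Abelian.image.fac, kernel.condition, zero_comp])
  have hS₁ : S₁.ShortExact :=
    { exact := ShortComplex.exact_of_f_is_kernel _ (KernelFork.IsLimit.ofι' _ _ fun {A} a ha =>
        ⟨kernel.lift ψ a (by
          rw [← Abelian.image.fac ψ, ← Category.assoc]
          show (a ≫ Abelian.factorThruImage ψ) ≫ _ = 0
          rw [show a ≫ Abelian.factorThruImage ψ = 0 from ha, zero_comp]), kernel.lift_ι _ _ _⟩) }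
  let S₂ := ShortComplex.mk (Abelian.image.ι ψ) (cokernel.π ψ) (kernel.condition _)
  have hS₂ : S₂.ShortExact := { exact := ShortComplex.exact_kernel _ }
  have hv₁ : Subsingleton (Coh.HH X S₁.X₁ 1) := subsingleton_HH_of_finite_support _ hSfin hScl
    (fun y hy => subsingleton_stalk_of_mono (kernel.ι ψ) (hres F y hy)) Nat.one_pos
  have hv₂ : Subsingleton (Coh.HH X S₂.X₁ 1) := subsingleton_HH_of_finite_support _ hSfin hScl
    (fun y hy => subsingleton_stalk_of_mono (Abelian.image.ι ψ) (hres E y hy)) Nat.one_pos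
  have hrange : LinearMap.range (ParSh.fibDMap k X I i) = LinearMap.ker (Canon.HHlin k (cokernel.π ψ) 0) := by
    rw [hhlin_exact (k := k) hS₂]
    show LinearMap.range (Canon.HHlin k ψ 0) = LinearMap.range (Canon.HHlin k (Abelian.image.ι ψ) 0)
    have hc : Canon.HHlin k ψ 0 =
        Canon.HHlin k (Abelian.image.ι ψ) 0 ∘ₗ Canon.HHlin k (Abelian.factorThruImage ψ) 0 := by
      rw [← hhlin_comp, Abelian.image.fac]
    rw [hc, LinearMap.range_comp, LinearMap.range_eq_top.2 (hhlin_surjective (k := k) hS₁ hv₁), Submodule.map_top]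
  have hdimk : Module.finrank k (LinearMap.ker (ParSh.fibDMap k X I i)) =
      Module.finrank k (LinearMap.range (Canon.HHlin k (cokernel.π ψ) 0)) := by
    have h1 := LinearMap.finrank_range_add_finrank_ker (ParSh.fibDMap k X I i)
    have h2 := LinearMap.finrank_range_add_finrank_ker (Canon.HHlin k (cokernel.π ψ) 0)
    have h3 : Module.finrank k (LinearMap.range (ParSh.fibDMap k X I i)) =
        Module.finrank k (LinearMap.ker (Canon.HHlin k (cokernel.π ψ) 0)) := by rw [hrange]
    exact Nat.add_left_cancel ((h1.trans heq).trans ((h2.symm.trans (Nat.add_comm _ _)).trans (congrArg (· + _) h3.symm)))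
  -- the comparison with the cokernel of `i`
  obtain ⟨γ, hγ⟩ := exists_epi i I
  have hle := finrank_range_le_of_epi (k := k) hC γ hTfin hTcl (Canon.HHlin k (cokernel.π ψ) 0)
  rw [euler_sub_eq_h0 hFc hEc i hC hTfin hTcl, hdimk]
  exact_mod_cast hle

end Groth.Agent.H25Par

namespace Groth.Agent.H25Par

variable {k : Type u} [Field k] {X : Scheme.{u}} [X.Over (Spec (CommRingCat.of k))]
  [IsProper (X ↘ Spec (CommRingCat.of k))] [IsIntegral X]

theorem finrank_comap_le {V W : Type*} [AddCommGroup V] [Module k V] [AddCommGroup W] [Module k W]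
    [Module.Finite k V] [Module.Finite k W] (f : V →ₗ[k] W) (S : Submodule k W) :
    Module.finrank k (S.comap f) ≤ Module.finrank k S + Module.finrank k (LinearMap.ker f) := by
  let g := f.domRestrict (S.comap f)
  have h := LinearMap.finrank_range_add_finrank_ker g
  have h1 : Module.finrank k (LinearMap.range g) ≤ Module.finrank k S :=
    Submodule.finrank_mono (by rintro _ ⟨⟨v, hv⟩, rfl⟩; exact hv)
  have h2 : Module.finrank k (LinearMap.ker g) ≤ Module.finrank k (LinearMap.ker f) := by
    refine LinearMap.finrank_le_finrank_of_injective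
      (f := LinearMap.codRestrict (LinearMap.ker f) ((S.comap f).subtype ∘ₗ (LinearMap.ker g).subtype)
        (fun x => x.2)) fun a b hab => ?_
    exact Subtype.ext (Subtype.ext (by simpa using congrArg Subtype.val hab))
  omega

/-- A full rank submodule has at most the generalized parabolic degree of the module. -/
theorem gpDeg_induced_le (hdim : topologicalKrullDim X ≤ 1) {F E : X.Modules} {n : ℕ}
    (hF : FlatMod.IsFinLocFreeOfRank n F) (hE : FlatMod.IsFinLocFreeOfRank n E) (i : F ⟶ E) [Mono i]
    (I : X.IdealSheafData) (hD : FGA.IsEffCartier I) [Module.Finite k (ParSh.fibD X I F)]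
    [Module.Finite k (ParSh.fibD X I E)]
    (heq : Module.finrank k (ParSh.fibD X I F) = Module.finrank k (ParSh.fibD X I E))
    (F₁ : Submodule k (ParSh.fibD X I E)) (α : ℝ) (hα0 : 0 ≤ α) (hα1 : α ≤ 1) :
    ParSh.gpDeg k X α F (ParSh.gpInduced k X I i F₁) n ≤ ParSh.gpDeg k X α E F₁ n := by
  have hK := finrank_ker_fibDMap_le hdim hF hE i I hD heq
  have hc : (Module.finrank k (ParSh.gpInduced k X I i F₁) : ℝ) ≤
      (Module.finrank k F₁ : ℝ) + (Module.finrank k (LinearMap.ker (ParSh.fibDMap k X I i)) : ℝ) := by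
    exact_mod_cast finrank_comap_le (ParSh.fibDMap k X I i) F₁
  have hK' : (Module.finrank k (LinearMap.ker (ParSh.fibDMap k X I i)) : ℝ) ≤
      (Curv2.euler k X E : ℝ) - (Curv2.euler k X F : ℝ) := by exact_mod_cast hK
  have h0 : (0 : ℝ) ≤ Module.finrank k (LinearMap.ker (ParSh.fibDMap k X I i)) := Nat.cast_nonneg _
  simp only [ParSh.gpDeg, ParSh.gpWt, Curv2.deg, Int.cast_sub]
  nlinarith [mul_le_mul_of_nonneg_left hc hα0, mul_le_of_le_one_left h0 hα1]

end Groth.Agent.H25Par
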