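import Groth.Agent.H25Par.FibKer

/-! # Global sections of a module supported on finitely many closed points -/

set_option autoImplicit false

universe u

open CategoryTheory CategoryTheory.Limits AlgebraicGeometry TopologicalSpace Opposite

namespace Groth.Agent.H25Par

variable {k : Type u} [Field k] {X : Scheme.{u}} [X.Over (Spec (CommRingCat.of k))]

/-- The constants in a local ring. -/
noncomputable def constStalk (y : X) : k →+* X.presheaf.stalk y :=
  (X.presheaf.germ (⊤ : X.Opens) y trivial).hom.comp (H10Coh.globA (A := k) (X := X))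

/-- A stalk as a vector space over the constants. -/
def Stk (_k : Type u) (M : X.Modules) (y : X) : Type u := M.presheaf.stalk y

noncomputable instance (M : X.Modules) (y : X) : AddCommGroup (Stk k M y) :=
  inferInstanceAs (AddCommGroup (M.presheaf.stalk y))

noncomputable instance (M : X.Modules) (y : X) : Module k (Stk k M y) :=
  Module.compHom (M.presheaf.stalk y) (constStalk (k := k) y)

/-- An `O_y`-linear equivalence of stalks is linear over the constants. -/
noncomputable def stkEquiv {M N : X.Modules} {y : X}
    (e : M.presheaf.stalk y ≃ₗ[X.presheaf.stalk y] N.presheaf.stalk y) : Stk k M y ≃ₗ[k] Stk k N y :=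
  { e with map_smul' := fun a x => e.map_smul (constStalk (k := k) y a) x }

/-- The family of germs of a global class of degree zero. -/
noncomputable def germs (M : X.Modules) (S : Set X) : Coh.HH X M 0 →ₗ[k] (∀ y : S, Stk k M y.1) :=
  LinearMap.pi fun y =>
    { toFun := fun x => M.presheaf.germ (⊤ : X.Opens) y.1 trivial
        (H10Coh.H0Equiv (H10Coh.sh M) (⊤ : X.Opens) (H10Coh.HHEquiv M 0 x))
      map_add' := fun a b => by
        rw [map_add, map_add]
        exact map_add (M.presheaf.germ (⊤ : X.Opens) y.1 trivial).hom _ _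
      map_smul' := fun a x => by
        rw [H10Coh.HHEquiv_smul']
        erw [H10Coh.compMk₀_apply, H10Coh.H0Equiv_map]
        change (TopCat.Presheaf.germ M.presheaf (⊤ : X.Opens) y.1 trivial).hom
          (@HSMul.hSMul (X.ringCatSheaf.obj.obj (op ⊤)) (M.val.obj (op ⊤)) (M.val.obj (op ⊤)) _
            (Coh.resTop X (op ⊤) (H10Coh.globA a)) _) = _
        erw [PresheafOfModules.germ_smul (M := M.val)]
        simp only [Coh.resTop, Subsingleton.elim (homOfLE (le_top (a := (⊤ : X.Opens)))) (𝟙 _)]
        erw [CategoryTheory.Functor.map_id]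
        rfl }

theorem germs_bijective (M : X.Modules) {S : Set X} (hS : S.Finite) (hcl : ∀ z ∈ S, IsClosed ({z} : Set X))
    (h : ∀ y, y ∉ S → Subsingleton (M.presheaf.stalk y)) : Function.Bijective (germs (k := k) M S) := by
  classical
  let F := H10Coh.sh M
  let E := (H10Coh.HHEquiv M 0).trans (H10Coh.H0Equiv F (⊤ : X.Opens))
  constructor
  · intro a b hab
    refine E.injective (TopCat.Presheaf.section_ext F (⊤ : X.Opens) _ _ fun y _ => ?_)
    by_cases hy : y ∈ S
    · exact congrFun hab ⟨y, hy⟩
    · exact (h y hy).elim _ _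
  · intro f
    haveI : Fintype S := hS.fintype
    have key : ∀ y : S, ∃ t : F.obj.obj (op (⊤ : X.Opens)), ∀ z : S,
        M.presheaf.germ (⊤ : X.Opens) z.1 trivial t = if hz : z = y then hz ▸ (f y) else 0 := by
      intro y
      obtain ⟨V, hyV, s, hs⟩ := M.presheaf.exists_germ_eq (f y : M.presheaf.stalk y.1)
      let W : X.Opens := ⟨V ∩ (S \ {y.1})ᶜ, V.2.inter (IsClosed.isOpen_compl (s := S \ {y.1}) (self := by
        rw [← Set.biUnion_of_singleton (S \ {y.1})]
        exact (hS.subset Set.sdiff_subset).isClosed_biUnion fun z hz => hcl z hz.1))⟩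
      have hyW : y.1 ∈ W := ⟨hyV, fun hh => hh.2 rfl⟩
      let U₀ : X.Opens := ⟨({y.1} : Set X)ᶜ, (hcl y.1 y.2).isOpen_compl⟩
      let B : ULift.{u} Bool → X.Opens := fun b => if b.down then W else U₀
      let t : ∀ b, F.obj.obj (op (B b)) := fun b =>
        if hb : b.down = true then F.obj.map (homOfLE (show B b ≤ V by simp only [B, hb, if_true]; exact fun z hz => hz.1)).op s else 0
      have hcmp : TopCat.Presheaf.IsCompatible F.obj B t := by
        intro a b
        by_cases hab : a.down = b.down
        · have : a = b := ULift.ext _ _ hab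
          subst this
          rfl
        · refine (section_eq_zero F (fun z hz => h z fun hzS => ?_) _).trans
            (section_eq_zero F (fun z hz => h z fun hzS => ?_) _).symm <;>
          · obtain ⟨a⟩ := a
            obtain ⟨b⟩ := b
            cases a <;> cases b <;> simp at hab
            all_goals
              simp [B, W, U₀] at hz
              tauto
      obtain ⟨g, hg, -⟩ := TopCat.Sheaf.existsUnique_gluing (F := F) B t hcmp
      have hcov : (⊤ : X.Opens) ≤ iSup B := fun z _ => by
        by_cases hz : z = y.1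
        · exact Opens.mem_iSup.2 ⟨⟨true⟩, by subst hz; exact hyW⟩
        · exact Opens.mem_iSup.2 ⟨⟨false⟩, hz⟩
      refine ⟨F.obj.map (homOfLE hcov).op g, fun z => ?_⟩
      refine (TopCat.Presheaf.germ_res_apply M.presheaf (homOfLE hcov) z.1 trivial g).trans ?_
      split
      · next hz =>
        subst hz
        rw [← TopCat.Presheaf.germ_res_apply M.presheaf (homOfLE (le_iSup B ⟨true⟩)) z.1 hyW g]
        erw [hg ⟨true⟩]
        erw [TopCat.Presheaf.germ_res_apply]
        exact hs
      · next hz =>
        have hz0 : z.1 ∈ B ⟨false⟩ := fun e => hz (Subtype.ext e)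
        rw [← TopCat.Presheaf.germ_res_apply M.presheaf (homOfLE (le_iSup B ⟨false⟩)) z.1 hz0 g]
        erw [hg ⟨false⟩]
        exact map_zero (M.presheaf.germ (B ⟨false⟩) z.1 hz0).hom
    choose t ht using key
    refine ⟨E.symm (∑ y, t y), funext fun z => ?_⟩
    show M.presheaf.germ (⊤ : X.Opens) z.1 trivial (E (E.symm (∑ y, t y))) = _
    rw [AddEquiv.apply_symm_apply]
    refine (map_sum (M.presheaf.germ (⊤ : X.Opens) z.1 trivial).hom t Finset.univ).trans ?_
    refine (Finset.sum_eq_single z (fun y _ hy => ?_) (fun hh => absurd (Finset.mem_univ z) hh)).trans ?_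
    · exact (ht y z).trans (dif_neg (Ne.symm hy))
    · exact (ht z z).trans (dif_pos rfl)

section proper

variable [IsProper (X ↘ Spec (CommRingCat.of k))] [IsIntegral X]

/-- Modules of the same rank have restrictions to a divisor of the same dimension. -/
theorem finrank_fibD_eq (hdim : topologicalKrullDim X ≤ 1) (I : X.IdealSheafData) (hD : FGA.IsEffCartier I)
    {F E : X.Modules} {n : ℕ} (hF : FlatMod.IsFinLocFreeOfRank n F) (hE : FlatMod.IsFinLocFreeOfRank n E) :
    Module.finrank k (ParSh.fibD X I F) = Module.finrank k (ParSh.fibD X I E) := by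
  haveI : IsLocallyNoetherian X := LocallyOfFiniteType.isLocallyNoetherian (X ↘ Spec (CommRingCat.of k))
  haveI : CompactSpace X := QuasiCompact.compactSpace_of_compactSpace (X ↘ Spec (CommRingCat.of k))
  haveI : IsNoetherian X := ⟨⟩
  obtain ⟨hSfin, hScl⟩ := finite_of_isClosed_of_notMem hdim I.support.isClosed (genericPoint_notMem hD)
  have hQ : ∀ y, y ∉ (I.support : Set X) → Subsingleton ((ClSub.quotMod I).presheaf.stalk y) := fun y hy => by
    by_contra h
    have := LeadProper.support_subset_range (F := ClSub.quotMod I) (@H10Coh.isQuasicoherent_pushforward _ _ I.subschemeι inferInstance inferInstance _ H10Coh.isQuasicoherent_unit) I.subschemeι (Iso.refl _) h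
    rw [Scheme.IdealSheafData.range_subschemeι] at this
    exact hy this
  have hres : ∀ (M : X.Modules) y, y ∉ (I.support : Set X) →
      Subsingleton ((ParSh.resD I M).presheaf.stalk y) := fun M y hy => by
    haveI := hQ y hy
    haveI : Subsingleton (TensorProduct (X.presheaf.stalk y) (M.presheaf.stalk y)
        ((ClSub.quotMod I).presheaf.stalk y)) := subsingleton_of_forall_eq 0 fun t => by
      induction t using TensorProduct.induction_on with
      | zero => rfl
      | tmul a b => rw [Subsingleton.elim b 0, TensorProduct.tmul_zero]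
      | add a b ha hb => rw [ha, hb, add_zero]
    exact (H16Derived.KFlat.Stalk.stalkEquiv M (ClSub.quotMod I) y).symm.toEquiv.subsingleton
  have e : ∀ y : (I.support : Set X), Stk k (ParSh.resD I F) y.1 ≃ₗ[k] Stk k (ParSh.resD I E) y.1 := fun y => by
    obtain ⟨hf, hfin, hr⟩ := finrank_stalk hF y.1
    obtain ⟨ef, efin, er⟩ := finrank_stalk hE y.1
    exact stkEquiv ((H16Derived.KFlat.Stalk.stalkEquiv F (ClSub.quotMod I) y.1).symm ≪≫ₗ
      TensorProduct.congr (LinearEquiv.ofFinrankEq _ _ (hr.trans er.symm)) (LinearEquiv.refl _ _) ≪≫ₗ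
      H16Derived.KFlat.Stalk.stalkEquiv E (ClSub.quotMod I) y.1)
  exact LinearEquiv.finrank_eq
    ((LinearEquiv.ofBijective _ (germs_bijective (k := k) _ hSfin hScl (hres F))) ≪≫ₗ
      LinearEquiv.piCongrRight e ≪≫ₗ
      (LinearEquiv.ofBijective _ (germs_bijective (k := k) _ hSfin hScl (hres E))).symm)

end proper

end Groth.Agent.H25Par
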