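import Groth.Agent.H25Par.GPSlope
import Groth.Agent.H25Euler.ParSh
import Groth.Prelude.Def_SecTwist

/-! # The sequence `E ⊗ I → E → E ⊗ O_D → 0` -/

set_option autoImplicit false

universe u

open CategoryTheory CategoryTheory.Limits AlgebraicGeometry TopologicalSpace Opposite MonoidalCategory

namespace Groth.Agent.H25Par

attribute [local instance 10000] H10Coh.hasSheafifyAb H10Coh.hasWeakSheafifyAb H10Coh.hasExtAb H10Coh.enoughInjAb

variable {X : Scheme.{u}}

set_option backward.isDefEq.respectTransparency false in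
theorem unitorR_natural {F G : X.Modules} (f : F ⟶ G) :
    KoszTw.tensorMap f (𝟙 (Coh.structureModule X)) ≫ (SecTwist.unitorR G).hom =
      (SecTwist.unitorR F).hom ≫ f := by
  let adj := PresheafOfModules.sheafificationAdjunction.{u, u, u, u}
    (J := Opens.grothendieckTopology X) (𝟙 X.ringCatSheaf.obj)
  rw [← KoszTw.tensorBi_map_app]
  have h1 := rightUnitor_naturality ((DCoh.toP (X := X)).map f)
  have h2 := adj.counit.naturality f
  show (CohB1.sheafifyMod X).map _ ≫ (CohB1.sheafifyMod X).map (SecTwist.unitorPre G).hom ≫ adj.counit.app G =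
    ((CohB1.sheafifyMod X).map (SecTwist.unitorPre F).hom ≫ adj.counit.app F) ≫ f
  rw [Category.assoc]
  erw [← h2]
  rw [← Category.assoc, ← Functor.map_comp]
  erw [h1]
  rw [Functor.map_comp, Category.assoc]
  rfl

/-- `E → E ⊗ O_D`. -/
noncomputable def resProj (I : X.IdealSheafData) (E : X.Modules) : E ⟶ ParSh.resD I E :=
  (SecTwist.unitorR E).inv ≫ KoszTw.tensorMap (𝟙 E) (ClSub.toSubscheme I)

theorem tensorMap_left (E : X.Modules) {A B : X.Modules} (g : A ⟶ B) :
    KoszTw.tensorMap (𝟙 E) g = ((DCoh.tensorBi (X := X)).obj E).map g := by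
  rw [KoszTw.tensorMap, CategoryTheory.Functor.map_id, NatTrans.id_app]
  exact Category.id_comp _

theorem tensorMap_comm {E F A B : X.Modules} (f : E ⟶ F) (g : A ⟶ B) :
    KoszTw.tensorMap f (𝟙 A) ≫ KoszTw.tensorMap (𝟙 F) g = KoszTw.tensorMap (𝟙 E) g ≫ KoszTw.tensorMap f (𝟙 B) := by
  rw [tensorMap_left, tensorMap_left, ← KoszTw.tensorBi_map_app, ← KoszTw.tensorBi_map_app]
  exact (((DCoh.tensorBi (X := X)).map f).naturality g).symm

theorem resProj_natural (I : X.IdealSheafData) {E F : X.Modules} (f : E ⟶ F) :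
    f ≫ resProj I F = resProj I E ≫ ParSh.resDMap I f := by
  rw [resProj, resProj, Category.assoc, ← tensorMap_comm, Iso.eq_inv_comp, ← Category.assoc, ← unitorR_natural,
    Category.assoc, Iso.hom_inv_id_assoc]

theorem twistMap_natural (I : X.IdealSheafData) {E F : X.Modules} (f : E ⟶ F) :
    KoszTw.tensorMap f (𝟙 (ClSub.idealMod I)) ≫ ParSh.twistMap I F = ParSh.twistMap I E ≫ f := by
  rw [ParSh.twistMap, ParSh.twistMap, ← Category.assoc, tensorMap_comm, Category.assoc, unitorR_natural,
    Category.assoc]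

set_option backward.isDefEq.respectTransparency false in
theorem twistMap_comp_resProj (I : X.IdealSheafData) (E : X.Modules) : ParSh.twistMap I E ≫ resProj I E = 0 := by
  rw [ParSh.twistMap, resProj, Category.assoc, Iso.hom_inv_id_assoc, tensorMap_left, tensorMap_left,
    ← Functor.map_comp, show ClSub.idealModι I ≫ ClSub.toSubscheme I = 0 from kernel.condition _, Functor.map_zero]

set_option backward.isDefEq.respectTransparency false in
theorem exists_cokernel_twistMap (I : X.IdealSheafData) (E : X.Modules) :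
    Nonempty (IsColimit (CokernelCofork.ofπ (resProj I E) (twistMap_comp_resProj I E))) := by
  haveI := H10Coh.epi_toSubscheme I
  let T := (DCoh.tensorBi (X := X)).obj E
  have hS : (ShortComplex.mk (ClSub.idealModι I) (ClSub.toSubscheme I) (kernel.condition _)).ShortExact :=
    { exact := ShortComplex.exact_kernel _
      mono_f := inferInstanceAs (Mono (kernel.ι _)) }
  haveI : PreservesColimit (parallelPair (ClSub.idealModι I) 0) T :=
    haveI := preservesColimitsOfSize_shrink.{0, u, 0, u} T
    inferInstance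
  have hT := CokernelCofork.mapIsColimit _ hS.gIsCokernel T
  have h : ∀ {A : X.Modules} (g : E ⟶ A), ParSh.twistMap I E ≫ g = 0 → T.map (ClSub.idealModι I) ≫ (SecTwist.unitorR E).hom ≫ g = 0 :=
    fun g hg => by rw [← Category.assoc, ← tensorMap_left]; exact hg
  haveI : Epi (resProj I E) := by
    rw [resProj, tensorMap_left]
    haveI : Epi (T.map (ClSub.toSubscheme I)) := Cofork.IsColimit.epi hT
    exact epi_comp _ _
  refine ⟨CokernelCofork.IsColimit.ofπ' _ _ fun {A} g hg =>
    ⟨(CokernelCofork.IsColimit.desc' hT _ (h g hg)).1, ?_⟩⟩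
  rw [resProj, tensorMap_left, Category.assoc,
    show T.map (ClSub.toSubscheme I) ≫ _ = _ from (CokernelCofork.IsColimit.desc' hT _ (h g hg)).2,
    Iso.inv_hom_id_assoc]

set_option backward.isDefEq.respectTransparency false in
/-- `0 → I E → E → E ⊗ O_D → 0`. -/
theorem shortExact_twistSub (I : X.IdealSheafData) (E : X.Modules) :
    ∃ w : (ParSh.twistSub I E).arrow ≫ resProj I E = 0,
      (ShortComplex.mk (ParSh.twistSub I E).arrow (resProj I E) w).ShortExact := by
  obtain ⟨hc⟩ := exists_cokernel_twistMap I E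
  haveI : Epi (factorThruImageSubobject (ParSh.twistMap I E)) := inferInstance
  have w : (ParSh.twistSub I E).arrow ≫ resProj I E = 0 := by
    show (imageSubobject (ParSh.twistMap I E)).arrow ≫ _ = 0
    rw [← cancel_epi (factorThruImageSubobject (ParSh.twistMap I E)), comp_zero, ← Category.assoc]
    rw [imageSubobject_arrow_comp]
    exact twistMap_comp_resProj I E
  haveI : Epi (resProj I E) := Cofork.IsColimit.epi hc
  have hh : ∀ {A : X.Modules} (g : E ⟶ A), (ParSh.twistSub I E).arrow ≫ g = 0 → ParSh.twistMap I E ≫ g = 0 :=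
    fun g hg => by
      rw [← imageSubobject_arrow_comp (ParSh.twistMap I E), Category.assoc]
      exact (congrArg (_ ≫ ·) hg).trans comp_zero
  exact ⟨w, { exact := ShortComplex.exact_of_g_is_cokernel _ (CokernelCofork.IsColimit.ofπ' _ _ fun {A} g hg =>
    ⟨(CokernelCofork.IsColimit.desc' hc g (hh g hg)).1, (CokernelCofork.IsColimit.desc' hc g (hh g hg)).2⟩) }⟩

set_option backward.isDefEq.respectTransparency false in
theorem twistSub_le_image (I : X.IdealSheafData) {E V : X.Modules} (q : E ⟶ V) [Epi q] :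
    ParSh.twistSub I V ≤ imageSubobject ((ParSh.twistSub I E).arrow ≫ q) := by
  haveI : Epi (KoszTw.tensorMap q (𝟙 (ClSub.idealMod I))) := by
    haveI := preservesColimitsOfSize_shrink.{0, u, 0, u} ((DCoh.tensorBi (X := X)).flip.obj (ClSub.idealMod I))
    rw [← KoszTw.tensorBi_map_app]
    exact inferInstanceAs (Epi (((DCoh.tensorBi (X := X)).flip.obj (ClSub.idealMod I)).map q))
  haveI hiso : IsIso (Subobject.ofLE _ _
      (imageSubobject_comp_le (KoszTw.tensorMap q (𝟙 (ClSub.idealMod I))) (ParSh.twistMap I V))) := by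
    haveI := imageSubobject_comp_le_epi_of_epi (KoszTw.tensorMap q (𝟙 (ClSub.idealMod I))) (ParSh.twistMap I V)
    exact isIso_of_mono_of_epi _
  have h1 : imageSubobject (ParSh.twistMap I V) ≤ imageSubobject (KoszTw.tensorMap q (𝟙 (ClSub.idealMod I)) ≫ ParSh.twistMap I V) :=
    Subobject.le_of_comm (inv (Subobject.ofLE _ _
      (imageSubobject_comp_le (KoszTw.tensorMap q (𝟙 (ClSub.idealMod I))) (ParSh.twistMap I V))))
      ((IsIso.inv_comp_eq _).2 (Subobject.ofLE_arrow _).symm)
  refine le_trans (show ParSh.twistSub I V ≤ _ from h1) ?_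
  rw [twistMap_natural]
  refine imageSubobject_le _ (factorThruImageSubobject (ParSh.twistMap I E) ≫
    factorThruImageSubobject ((ParSh.twistSub I E).arrow ≫ q)) ?_
  rw [Category.assoc, imageSubobject_arrow_comp, ← Category.assoc]
  show (_ ≫ (imageSubobject _).arrow) ≫ q = _
  rw [imageSubobject_arrow_comp]

theorem mono_resDMap [IsLocallyNoetherian X] (I : X.IdealSheafData) {V F : X.Modules} (ι : V ⟶ F) [Mono ι]
    (h : FlatMod.IsFinLocFree (cokernel ι)) : Mono (ParSh.resDMap I ι) := by
  have hS : (ShortComplex.mk ι (cokernel.π ι) (cokernel.condition ι)).ShortExact :=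
    { exact := ShortComplex.exact_cokernel _ }
  have hinj : ∀ y, Function.Injective (H06Mod.stalkLin (ParSh.resDMap I ι) y) := fun y => by
    let R := X.presheaf.stalk y
    let T := DerSch.stalkFunctor X y
    have hT := hS.map_of_exact T
    haveI := hT.mono_f
    haveI := hT.epi_g
    haveI : Module.Flat R ((cokernel ι).presheaf.stalk y) := H16Derived.KFlat.Stalk.isFlat_of_isFinLocFree h y
    haveI : Module.Finite R ((cokernel ι).presheaf.stalk y) :=
      H29Ref.finite_stalk _ (H16Derived.KFlat.Stalk.isCoh_of_isFinLocFree h).2 y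
    haveI : Module.Free R ((cokernel ι).presheaf.stalk y) := Module.free_of_flat_of_isLocalRing
    haveI : Module.Projective R (T.obj (cokernel ι)) :=
      inferInstanceAs (Module.Projective R ((cokernel ι).presheaf.stalk y))
    have hi := (ModuleCat.mono_iff_injective _).1 hT.mono_f
    have hs := (ModuleCat.epi_iff_surjective _).1 hT.epi_g
    obtain ⟨s, hs'⟩ := Module.projective_lifting_property (T.map (cokernel.π ι)).hom LinearMap.id hs
    have hex : Function.Exact (T.map ι).hom (T.map (cokernel.π ι)).hom :=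
      LinearMap.exact_iff.2 hT.exact.moduleCat_range_eq_ker.symm
    obtain ⟨e, he₁, -⟩ := hex.splitSurjectiveEquiv hi ⟨s, hs'⟩
    let r : F.presheaf.stalk y →ₗ[R] V.presheaf.stalk y := LinearMap.fst R _ _ ∘ₗ e.toLinearMap
    have hr : ∀ v, r ((T.map ι).hom v) = v := fun v => by
      rw [he₁]
      exact congrArg Prod.fst (e.apply_symm_apply (v, 0))
    intro a b hab
    obtain ⟨a, rfl⟩ := (H16Derived.KFlat.Stalk.stalkEquiv V (ClSub.quotMod I) y).surjective a
    obtain ⟨b, rfl⟩ := (H16Derived.KFlat.Stalk.stalkEquiv V (ClSub.quotMod I) y).surjective b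
    have ha := H16Derived.KFlat.Stalk.toStalk_naturality y ι (𝟙 (ClSub.quotMod I)) a
    have hb := H16Derived.KFlat.Stalk.toStalk_naturality y ι (𝟙 (ClSub.quotMod I)) b
    have h2 := (H16Derived.KFlat.Stalk.stalkEquiv F (ClSub.quotMod I) y).injective (ha.symm.trans (hab.trans hb))
    refine congrArg _ ?_
    have h3 : H06Mod.stalkLin (𝟙 (ClSub.quotMod I)) y = LinearMap.id := LinearMap.ext fun v => by
      obtain ⟨U, hyU, v, rfl⟩ := (ClSub.quotMod I).presheaf.exists_germ_eq v
      rw [H06Mod.stalkLin_germ]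
      rfl
    rw [h3] at h2
    have h4 : r ∘ₗ H06Mod.stalkLin ι y = LinearMap.id := by
      refine LinearMap.ext fun v => ?_
      obtain ⟨U, hyU, v, rfl⟩ := V.presheaf.exists_germ_eq v
      refine Eq.trans (congrArg r ?_) (hr (V.presheaf.germ U y hyU v))
      exact (H06Mod.stalkLin_germ _ _ _ _ _).trans
        (TopCat.Presheaf.stalkFunctor_map_germ_apply U y hyU ι.mapPresheaf v).symm
    have h5 := congrArg (TensorProduct.map r LinearMap.id) h2
    refine Eq.trans ?_ (h5.trans ?_)
    all_goals
      rw [TensorProduct.map_map, h4, LinearMap.id_comp, TensorProduct.map_id]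
      rfl
  have : ∀ y, Mono ((DerSch.stalkFunctor X y).map (ParSh.resDMap I ι)) := fun y => by
    rw [ModuleCat.mono_iff_injective]
    intro a b hab
    refine hinj y ?_
    obtain ⟨U, hyU, a, rfl⟩ := (ParSh.resD I V).presheaf.exists_germ_eq a
    obtain ⟨W, hyW, b, rfl⟩ := (ParSh.resD I V).presheaf.exists_germ_eq b
    rw [H06Mod.stalkLin_germ, H06Mod.stalkLin_germ]
    exact ((TopCat.Presheaf.stalkFunctor_map_germ_apply U y hyU _ a).symm.trans hab).trans
      (TopCat.Presheaf.stalkFunctor_map_germ_apply W y hyW _ b)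
  refine Preadditive.mono_of_kernel_zero ((isZero_of_stalks _ fun y => ?_).eq_of_src _ _)
  haveI := this y
  have hk := (H25Euler.notMem_support_iff (kernel (ParSh.resDMap I ι)) y).2 ((IsZero.iff_id_eq_zero _).2 (by
    haveI : Mono ((DerSch.stalkFunctor X y).map (kernel.ι (ParSh.resDMap I ι))) := inferInstance
    rw [← cancel_mono ((DerSch.stalkFunctor X y).map (kernel.ι (ParSh.resDMap I ι))), Category.id_comp, zero_comp,
      ← cancel_mono ((DerSch.stalkFunctor X y).map (ParSh.resDMap I ι)), ← Functor.map_comp, kernel.condition,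
      Functor.map_zero, zero_comp]))
  exact not_not.1 hk

end Groth.Agent.H25Par
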