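import Groth.Agent.H25Par.Rank
import Groth.Agent.H25Euler.Mult
import Groth.Agent.H19Grp.RegularSmooth
import Groth.Agent.H8Props.FlatDimOneBase
import Groth.Agent.H29Ref.Free
import Groth.Agent.LeadHom.Torsion
import Mathlib.RingTheory.Flat.TorsionFree

/-! # Torsion free modules on smooth curves, saturation -/

set_option autoImplicit false

universe u

open CategoryTheory CategoryTheory.Limits AlgebraicGeometry TopologicalSpace Opposite

namespace Groth.Agent.H25Par

variable {X : Scheme.{u}} [IsIntegral X] [IsLocallyNoetherian X]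

theorem isTorsionFree_of_locFree {M : X.Modules} (h : FlatMod.IsFinLocFree M) : TorSh.IsTorsionFree M := fun x => by
  haveI : Module.Flat (X.presheaf.stalk x) (M.presheaf.stalk x) := H16Derived.KFlat.Stalk.isFlat_of_isFinLocFree h x
  exact Module.Flat.isTorsionFree

theorem isTorsionFree_of_ass {Q : X.Modules} (hQ : Coh.IsQCoh Q) (hA : AssSch.Ass Q ⊆ {genericPoint X}) :
    TorSh.IsTorsionFree Q := fun y => by
  refine ⟨fun r hr v w hvw => ?_⟩
  rw [← sub_eq_zero]
  have h0 : r • (v - w) = 0 := by rw [smul_sub]; exact sub_eq_zero.2 hvw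
  generalize v - w = z at h0
  clear hvw
  obtain ⟨U, hyU, s, rfl⟩ := Q.presheaf.exists_germ_eq z
  obtain ⟨W, hyW, t, rfl⟩ := X.presheaf.exists_germ_eq r
  obtain ⟨V, hV, hyV, hle⟩ := exists_isAffineOpen_mem_and_subset (U := U ⊓ W) (x := y) ⟨hyU, hyW⟩
  have hleU : V ≤ U := fun a ha => (hle ha).1
  have hleW : V ≤ W := fun a ha => (hle ha).2
  rw [← TopCat.Presheaf.germ_res_apply X.presheaf (homOfLE hleW) y hyV t,
    ← TopCat.Presheaf.germ_res_apply Q.presheaf (homOfLE hleU) y hyV s] at h0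
  rw [← TopCat.Presheaf.germ_res_apply X.presheaf (homOfLE hleW) y hyV t] at hr
  rw [← TopCat.Presheaf.germ_res_apply Q.presheaf (homOfLE hleU) y hyV s]
  generalize X.presheaf.map (homOfLE hleW).op t = t' at hr h0
  generalize Q.presheaf.map (homOfLE hleU).op s = s' at h0 ⊢
  rw [← H17.AssPts.germ_smul'] at h0
  by_contra hne
  obtain ⟨z, hzV, hz, -, hz0⟩ := H17.AssPts.exists_ass_specializes_of_germ Q hQ hV hyV hne
  obtain rfl : z = genericPoint X := hA hz
  obtain ⟨W', hyW', i, i', hW'⟩ := Q.presheaf.germ_eq y hyV hyV (t' • s') 0 (h0.trans (map_zero _).symm)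
  have hgW : genericPoint X ∈ W' := (genericPoint_specializes y).mem_open W'.2 hyW'
  have h1 : Q.presheaf.germ V (genericPoint X) hzV (t' • s') = 0 := by
    rw [← TopCat.Presheaf.germ_res_apply Q.presheaf i (genericPoint X) hgW]
    erw [hW']
    exact (congrArg _ (map_zero _)).trans (map_zero _)
  rw [H17.AssPts.germ_smul'] at h1
  letI : Field (X.presheaf.stalk (genericPoint X)) := inferInstanceAs (Field X.functionField)
  refine hz0 ((smul_eq_zero.1 h1).resolve_left fun ht => ?_)
  refine (nonZeroDivisors.ne_zero (M₀ := X.presheaf.stalk y) (isRegular_iff_mem_nonZeroDivisors.1 hr)) ?_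
  haveI : Nonempty (V : X.Opens) := ⟨⟨_, hzV⟩⟩
  rw [germ_injective_of_isIntegral X (genericPoint X) hzV (ht.trans (map_zero _).symm), map_zero]

theorem free_stalk_of_torsionFree {k : Type u} [Field k] [X.Over (Spec (CommRingCat.of k))]
    [Smooth (X ↘ Spec (CommRingCat.of k))] (hdim : topologicalKrullDim X ≤ 1) {M : X.Modules} (hM : Coh.IsCoh M)
    (htf : TorSh.IsTorsionFree M) (x : X) : Module.Free (X.presheaf.stalk x) (M.presheaf.stalk x) := by
  haveI := H19Grp.isRegularLocalRing_stalk_of_smooth (X ↘ Spec (CommRingCat.of k)) x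
  haveI : IsPrincipalIdealRing (X.presheaf.stalk x) :=
    H8Props.FlatDimOneBase.isPrincipalIdealRing_of_dim_le_one _
      ((H8Props.FlatDimOneBase.ringKrullDim_stalk_le X x).trans hdim)
  haveI := H29Ref.finite_stalk M hM.2 x
  haveI := htf x
  exact Module.free_of_finite_type_torsion_free'

theorem notMem_support_torsion {C : X.Modules} (hC : Coh.IsCoh C) :
    ∃ (Q : X.Modules) (q : C ⟶ Q), Epi q ∧ Coh.IsCoh Q ∧ TorSh.IsTorsionFree Q ∧
      genericPoint X ∉ CohB1.support (kernel q) := by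
  classical
  obtain ⟨G, q, hq, hG, hA, hz, -⟩ := H17.PrimaryDecomp.exists_decomposition C hC
  obtain ⟨V, hgV, hV⟩ := H17.PrimaryDecomp.exists_nhd hC (genericPoint X)
  have hother : ∀ z ∈ AssSch.Ass C, z ∈ V → z = genericPoint X := fun z hz hzV =>
    (hV z hz hzV).antisymm (genericPoint_specializes z) |>.eq
  have key : ∀ (K : X.Modules) (ι : K ⟶ C) [Mono ι], (∀ x : AssSch.Ass C, x.1 = genericPoint X → ι ≫ q x = 0) →
      genericPoint X ∉ CohB1.support K := fun K ι _ hι => by
    refine not_not.2 (subsingleton_of_forall_eq 0 fun a => ?_)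
    obtain ⟨U, hgU, s, rfl⟩ := K.presheaf.exists_germ_eq a
    let O := U ⊓ V
    have hgO : genericPoint X ∈ O := ⟨hgU, hgV⟩
    rw [← TopCat.Presheaf.germ_res_apply K.presheaf (homOfLE (inf_le_left : O ≤ U)) _ hgO]
    have h0 : ι.app O (K.presheaf.map (homOfLE (inf_le_left : O ≤ U)).op s) = 0 := hz O _ fun x => by
      by_cases hx : x.1 = genericPoint X
      · exact congr(Scheme.Modules.Hom.app $(hι x hx) O (K.presheaf.map (homOfLE (inf_le_left : O ≤ U)).op s))
      · exact LeadHom.eq_zero_of_ass_singleton (hG x).1 (hA x) (fun hxO => hx (hother x.1 x.2 (show x.1 ∈ O from hxO).2)) _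
    rw [H10Coh.injective_app_of_mono' ι O (h0.trans (map_zero _).symm), map_zero]
  by_cases hη : genericPoint X ∈ AssSch.Ass C
  · refine ⟨G ⟨_, hη⟩, q _, hq _, hG _, isTorsionFree_of_ass (hG _).1 (hA _).le, key _ (kernel.ι _) fun x hx => ?_⟩
    obtain rfl : x = ⟨_, hη⟩ := Subtype.ext hx
    exact kernel.condition _
  · refine ⟨cokernel (𝟙 C), cokernel.π (𝟙 C), inferInstance, H10Coh.isCoh_cokernel (𝟙 C) hC.1 hC, fun y => ?_,
      key _ (kernel.ι _) fun x hx => absurd (hx ▸ x.2) hη⟩
    haveI : Subsingleton ((DerSch.stalkFunctor X y).obj (cokernel (𝟙 C))) :=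
      ModuleCat.isZero_iff_subsingleton.1 ((DerSch.stalkFunctor X y).map_isZero (isZero_cokernel_of_epi (𝟙 C)))
    exact ⟨fun r _ v w _ => this.elim v w⟩

theorem rank_at_generic {M : X.Modules} {U : X.Opens} {n : ℕ} (e : M.restrict U.ι ≅ FlatMod.freeMod (↑U) n) {x : X}
    (hx : x ∈ U) : n = H16Derived.KFlat.Stalk.rfd M x := by
  exact ((H16Derived.KFlat.Stalk.rfd_restrict U M (⟨x, hx⟩ : U)).symm.trans
    ((H16Derived.KFlat.Stalk.rfd_congr e _).trans (H16Derived.KFlat.Stalk.rfd_freeMod n _))).symm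

section curve


theorem exists_rank (k : Type u) [Field k] [X.Over (Spec (CommRingCat.of k))]
    [Smooth (X ↘ Spec (CommRingCat.of k))] (hdim : topologicalKrullDim X ≤ 1) {M : X.Modules} (hM : Coh.IsCoh M)
    (htf : TorSh.IsTorsionFree M) : ∃ r : ℕ, FlatMod.IsFinLocFreeOfRank r M := by
  have hf := H29Ref.isFinLocFree_of_free_stalk M hM (free_stalk_of_torsionFree (k := k) hdim hM htf)
  obtain ⟨U, n, hgU, ⟨e⟩⟩ := hf (genericPoint X)
  refine ⟨n, fun y => ?_⟩
  obtain ⟨V, m, hyV, ⟨e'⟩⟩ := hf y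
  have hgV : genericPoint X ∈ V := (genericPoint_specializes y).mem_open V.2 hyV
  obtain rfl : m = n := (rank_at_generic e' hgV).trans (rank_at_generic e hgU).symm
  exact ⟨V, hyV, ⟨e'⟩⟩

end curve

end Groth.Agent.H25Par
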