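import Groth.Agent.H25Euler.ParAb

/-! # Additivity along parabolic extensions -/

set_option autoImplicit false

universe u

open CategoryTheory CategoryTheory.Limits AlgebraicGeometry
open Groth.Agent.H25Euler

namespace Groth.Agent.H25Par

variable {X : Scheme.{u}}

/-- `0 → i⁻¹S → S → p(S) → 0`. -/
theorem shortExact_piece {F E G : X.Modules} {i : F ⟶ E} {p : E ⟶ G} {w : i ≫ p = 0}
    (hex : (ShortComplex.mk i p w).ShortExact) (S : Subobject E) :
    ∃ (T : ShortComplex X.Modules), T.ShortExact ∧
      T.X₁ = (((Subobject.pullback i).obj S : Subobject F) : X.Modules) ∧ T.X₂ = (S : X.Modules) ∧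
      T.X₃ = ((imageSubobject (S.arrow ≫ p) : Subobject G) : X.Modules) := by
  haveI := hex.mono_f
  have sq := Subobject.isPullback i S
  let g := factorThruImageSubobject (S.arrow ≫ p)
  let π := Subobject.pullbackπ i S
  haveI : Mono π := sq.mono_fst_of_mono
  have hπ : π ≫ g = 0 := by
    rw [← cancel_mono (imageSubobject (S.arrow ≫ p)).arrow, Category.assoc, imageSubobject_arrow_comp, zero_comp,
      ← Category.assoc, sq.w, Category.assoc, w, comp_zero]
  refine ⟨ShortComplex.mk π g hπ, ?_, rfl, rfl, rfl⟩
  exact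
    { exact := ShortComplex.exact_of_f_is_kernel _ (KernelFork.IsLimit.ofι' _ _ fun {A} t ht => by
        have h1 : (t ≫ S.arrow) ≫ p = 0 :=
          (Category.assoc _ _ _).trans ((congrArg (t ≫ ·) (imageSubobject_arrow_comp (S.arrow ≫ p))).symm.trans
            ((Category.assoc _ _ _).symm.trans ((congrArg (· ≫ _) ht).trans zero_comp)))
        haveI : Mono (ShortComplex.mk i p w).f := hex.mono_f
        exact ⟨sq.lift t (hex.exact.lift (t ≫ S.arrow) h1) (hex.exact.lift_f (t ≫ S.arrow) h1).symm,
          sq.lift_fst _ _ _⟩) }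

end Groth.Agent.H25Par
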