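import Groth.Agent.H25Par.GPDeg
import Groth.Agent.H25Par.CurveLocFree
import Groth.Agent.H25Par.ParAdd

/-! # Homomorphisms between semistable generalized parabolic bundles of the same slope -/

set_option autoImplicit false

universe u

open CategoryTheory CategoryTheory.Limits AlgebraicGeometry TopologicalSpace Opposite

namespace Groth.Agent.H25Par

attribute [local instance 10000] H10Coh.hasSheafifyAb H10Coh.hasWeakSheafifyAb H10Coh.hasExtAb H10Coh.enoughInjAb

variable {k : Type u} [Field k] {X : Scheme.{u}} [X.Over (Spec (CommRingCat.of k))]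

theorem resD_map (I : X.IdealSheafData) {E F : X.Modules} (f : E ⟶ F) :
    ((DCoh.tensorBi (X := X)).flip.obj (ClSub.quotMod I)).map f = ParSh.resDMap I f :=
  KoszTw.tensorBi_map_app f _

theorem fibDMap_comp (I : X.IdealSheafData) {E F G : X.Modules} (f : E ⟶ F) (g : F ⟶ G) :
    ParSh.fibDMap k X I (f ≫ g) = ParSh.fibDMap k X I g ∘ₗ ParSh.fibDMap k X I f := by
  show Canon.HHlin k _ 0 = _
  rw [← resD_map I (f ≫ g), Functor.map_comp, resD_map, resD_map]
  exact hhlin_comp _ _ _

variable [IsProper (X ↘ Spec (CommRingCat.of k))] [IsIntegral X]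

theorem subsingleton_stalk_resD (I : X.IdealSheafData) (M : X.Modules) {y : X} (hy : y ∉ (I.support : Set X)) :
    Subsingleton ((ParSh.resD I M).presheaf.stalk y) := by
  haveI : Subsingleton ((ClSub.quotMod I).presheaf.stalk y) := by
    by_contra h
    have := LeadProper.support_subset_range (F := ClSub.quotMod I) (@H10Coh.isQuasicoherent_pushforward _ _ I.subschemeι inferInstance inferInstance _ H10Coh.isQuasicoherent_unit) I.subschemeι (Iso.refl _) h
    rw [Scheme.IdealSheafData.range_subschemeι] at this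
    exact hy this
  haveI : Subsingleton (TensorProduct (X.presheaf.stalk y) (M.presheaf.stalk y)
      ((ClSub.quotMod I).presheaf.stalk y)) := subsingleton_of_forall_eq 0 fun t => by
    induction t using TensorProduct.induction_on with
    | zero => rfl
    | tmul a b => rw [Subsingleton.elim b 0, TensorProduct.tmul_zero]
    | add a b ha hb => rw [ha, hb, add_zero]
  exact (H16Derived.KFlat.Stalk.stalkEquiv M (ClSub.quotMod I) y).symm.toEquiv.subsingleton

theorem ker_fibDMap_le (hdim : topologicalKrullDim X ≤ 1) (I : X.IdealSheafData) (hD : FGA.IsEffCartier I)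
    {S : ShortComplex X.Modules} (hS : S.ShortExact) :
    LinearMap.ker (ParSh.fibDMap k X I S.g) ≤ LinearMap.range (ParSh.fibDMap k X I S.f) := by
  haveI : IsLocallyNoetherian X := LocallyOfFiniteType.isLocallyNoetherian (X ↘ Spec (CommRingCat.of k))
  haveI : CompactSpace X := QuasiCompact.compactSpace_of_compactSpace (X ↘ Spec (CommRingCat.of k))
  haveI : IsNoetherian X := ⟨⟩
  obtain ⟨hSfin, hScl⟩ := finite_of_isClosed_of_notMem hdim I.support.isClosed (genericPoint_notMem hD)
  let T := (DCoh.tensorBi (X := X)).flip.obj (ClSub.quotMod I)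
  haveI := hS.epi_g
  haveI : PreservesColimit (parallelPair S.f 0) T :=
    haveI := preservesColimitsOfSize_shrink.{0, u, 0, u} T
    inferInstance
  let ψ := T.map S.f
  have hT := CokernelCofork.mapIsColimit _ hS.gIsCokernel T
  obtain ⟨e, he⟩ : ∃ e : cokernel ψ ≅ T.obj S.X₃, cokernel.π ψ ≫ e.hom = T.map S.g :=
    ⟨(cokernelIsCokernel ψ).coconePointUniqueUpToIso hT,
      (cokernelIsCokernel ψ).comp_coconePointUniqueUpToIso_hom hT WalkingParallelPair.one⟩
  have hS₁ : (ShortComplex.mk (kernel.ι ψ) (Abelian.factorThruImage ψ)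
      (by rw [← cancel_mono (Abelian.image.ι ψ), Category.assoc, Abelian.image.fac, kernel.condition, zero_comp])).ShortExact :=
    { exact := ShortComplex.exact_of_f_is_kernel _ (KernelFork.IsLimit.ofι' _ _ fun {A} a ha =>
        ⟨kernel.lift ψ a (by
          rw [← Abelian.image.fac ψ, ← Category.assoc]
          show (a ≫ Abelian.factorThruImage ψ) ≫ _ = 0
          rw [show a ≫ Abelian.factorThruImage ψ = 0 from ha, zero_comp]), kernel.lift_ι _ _ _⟩) }
  have hS₂ : (ShortComplex.mk (Abelian.image.ι ψ) (cokernel.π ψ) (kernel.condition _)).ShortExact :=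
    { exact := ShortComplex.exact_kernel _ }
  have hv₁ : Subsingleton (Coh.HH X (kernel ψ) 1) := subsingleton_HH_of_finite_support _ hSfin hScl
    (fun y hy => subsingleton_stalk_of_mono (kernel.ι ψ) (subsingleton_stalk_resD I S.X₁ hy)) Nat.one_pos
  intro x hx
  have hx' : Canon.HHlin k (cokernel.π ψ) 0 x = 0 := by
    have h1 : Canon.HHlin k (T.map S.g) 0 x = 0 := by
      rw [show T.map S.g = ParSh.resDMap I S.g from resD_map I S.g]
      exact hx
    have h2 : cokernel.π ψ = T.map S.g ≫ e.inv := by rw [← he, Category.assoc, e.hom_inv_id, Category.comp_id]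
    rw [h2, hhlin_comp]
    exact (congrArg (Canon.HHlin k e.inv 0) h1).trans (map_zero _)
  have h3 : x ∈ LinearMap.range (Canon.HHlin k (Abelian.image.ι ψ) 0) := by
    rw [← hhlin_exact (k := k) hS₂]
    exact hx'
  obtain ⟨z, rfl⟩ := h3
  obtain ⟨w, rfl⟩ := hhlin_surjective (k := k) hS₁ hv₁ z
  refine ⟨w, ?_⟩
  have h4 : ParSh.fibDMap k X I S.f = Canon.HHlin k (Abelian.image.ι ψ) 0 ∘ₗ Canon.HHlin k (Abelian.factorThruImage ψ) 0 := by
    rw [← hhlin_comp, Abelian.image.fac]
    exact congrArg (fun t => Canon.HHlin k t 0) (resD_map I S.f).symm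
  rw [h4]
  rfl

theorem rank_add {S : ShortComplex X.Modules} (hS : S.ShortExact) {a b c : ℕ} (h₁ : FlatMod.IsFinLocFreeOfRank a S.X₁)
    (h₂ : FlatMod.IsFinLocFreeOfRank b S.X₂) (h₃ : FlatMod.IsFinLocFreeOfRank c S.X₃) [IsLocallyNoetherian X] :
    a + c = b := by
  letI : Field (X.presheaf.stalk (genericPoint X)) := inferInstanceAs (Field X.functionField)
  obtain ⟨-, f₁, r₁⟩ := finrank_stalk h₁ (genericPoint X)
  obtain ⟨-, f₂, r₂⟩ := finrank_stalk h₂ (genericPoint X)
  obtain ⟨-, f₃, r₃⟩ := finrank_stalk h₃ (genericPoint X)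
  let T := DerSch.stalkFunctor X (genericPoint X)
  haveI : Module.Finite (X.presheaf.stalk (genericPoint X)) (T.obj S.X₁) := f₁
  haveI : Module.Finite (X.presheaf.stalk (genericPoint X)) (T.obj S.X₂) := f₂
  haveI : Module.Finite (X.presheaf.stalk (genericPoint X)) (T.obj S.X₃) := f₃
  have hT := hS.map_of_exact T
  haveI := hT.mono_f
  haveI := hT.epi_g
  have hi := (ModuleCat.mono_iff_injective _).1 hT.mono_f
  have hs := (ModuleCat.epi_iff_surjective _).1 hT.epi_g
  have he : LinearMap.range (S.map T).f.hom = LinearMap.ker (S.map T).g.hom :=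
    hT.exact.moduleCat_range_eq_ker
  have h := LinearMap.finrank_range_add_finrank_ker (T.map S.g).hom
  have e1 : Module.finrank (X.presheaf.stalk (genericPoint X)) (LinearMap.ker (T.map S.g).hom) = a := by
    rw [← show LinearMap.range (T.map S.f).hom = LinearMap.ker (T.map S.g).hom from he]
    exact (LinearMap.finrank_range_of_inj hi).trans r₁
  rw [LinearMap.range_eq_top.2 (show Function.Surjective (T.map S.g).hom from hs), finrank_top, e1] at h
  have e2 : Module.finrank (X.presheaf.stalk (genericPoint X)) (T.obj S.X₂) = b := r₂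
  have e3 : Module.finrank (X.presheaf.stalk (genericPoint X)) (T.obj S.X₃) = c := r₃
  rw [e2, e3] at h
  exact (add_comm _ _).trans h

/-- The degree of a bundle is at most the sum of those of a subbundle and of the quotient. -/
theorem gpDeg_le_add (hdim : topologicalKrullDim X ≤ 1) (I : X.IdealSheafData) (hD : FGA.IsEffCartier I)
    (α : ℝ) (hα0 : 0 ≤ α) {S : ShortComplex X.Modules} (hS : S.ShortExact) {a b c : ℕ}
    (h₁ : FlatMod.IsFinLocFreeOfRank a S.X₁)
    (h₂ : FlatMod.IsFinLocFreeOfRank b S.X₂) (h₃ : FlatMod.IsFinLocFreeOfRank c S.X₃)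
    (F₁ : Submodule k (ParSh.fibD X I S.X₂)) :
    ParSh.gpDeg k X α S.X₂ F₁ b ≤ ParSh.gpDeg k X α S.X₁ (ParSh.gpInduced k X I S.f F₁) a +
      ParSh.gpDeg k X α S.X₃ (ParSh.gpCoinduced k X I S.g F₁) c := by
  haveI : IsLocallyNoetherian X := LocallyOfFiniteType.isLocallyNoetherian (X ↘ Spec (CommRingCat.of k))
  haveI := finite_fibD (k := k) I h₁
  haveI := finite_fibD (k := k) I h₂
  have hr := rank_add hS h₁ h₂ h₃
  have hc : ∀ {M : X.Modules} {n : ℕ}, FlatMod.IsFinLocFreeOfRank n M → Coh.IsCoh M := fun {M n} h =>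
    H16Derived.KFlat.Stalk.isCoh_of_isFinLocFree fun y => let ⟨U, hU⟩ := h y; ⟨U, n, hU⟩
  have he := H25Euler.euler_add (k := k) (S := S) hS (hc h₁) (hc h₂) (hc h₃)
  have hd : Module.finrank k F₁ ≤ Module.finrank k (ParSh.gpInduced k X I S.f F₁) +
      Module.finrank k (ParSh.gpCoinduced k X I S.g F₁) := by
    have h := LinearMap.finrank_range_add_finrank_ker ((ParSh.fibDMap k X I S.g).domRestrict F₁)
    rw [LinearMap.range_domRestrict] at h
    have h' : Module.finrank k (LinearMap.ker ((ParSh.fibDMap k X I S.g).domRestrict F₁)) ≤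
        Module.finrank k ((ParSh.gpInduced k X I S.f F₁).map (ParSh.fibDMap k X I S.f)) := by
      rw [← Submodule.finrank_map_subtype_eq]
      refine Submodule.finrank_mono ?_
      rintro _ ⟨⟨v, hv⟩, hker, rfl⟩
      obtain ⟨w, hw⟩ := ker_fibDMap_le (k := k) hdim I hD hS (show v ∈ LinearMap.ker (ParSh.fibDMap k X I S.g) from hker)
      exact ⟨w, (show ParSh.fibDMap k X I S.f w ∈ F₁ by rw [hw]; exact hv), hw⟩
    have h'' := Submodule.finrank_map_le (ParSh.fibDMap k X I S.f) (ParSh.gpInduced k X I S.f F₁)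
    show _ ≤ _ + Module.finrank k (F₁.map (ParSh.fibDMap k X I S.g))
    omega
  simp only [ParSh.gpDeg, ParSh.gpWt, Curv2.deg, Int.cast_sub, Int.cast_mul, Int.cast_natCast]
  rw [show (Curv2.euler k X S.X₂ : ℝ) = (Curv2.euler k X S.X₁ : ℝ) + (Curv2.euler k X S.X₃ : ℝ) by exact_mod_cast he,
    ← hr]
  push_cast
  have hd' : (Module.finrank k F₁ : ℝ) ≤ (Module.finrank k (ParSh.gpInduced k X I S.f F₁) : ℝ) +
      (Module.finrank k (ParSh.gpCoinduced k X I S.g F₁) : ℝ) := by exact_mod_cast hd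
  nlinarith [mul_le_mul_of_nonneg_left hd' hα0]

theorem mul_le_of_quotient (hdim : topologicalKrullDim X ≤ 1) (I : X.IdealSheafData) (hD : FGA.IsEffCartier I)
    (α : ℝ) (hα0 : 0 ≤ α) {S : ShortComplex X.Modules} (hS : S.ShortExact) {a b c : ℕ}
    (h₁ : FlatMod.IsFinLocFreeOfRank a S.X₁)
    (h₂ : FlatMod.IsFinLocFreeOfRank b S.X₂) (h₃ : FlatMod.IsFinLocFreeOfRank c S.X₃)
    (F₁ : Submodule k (ParSh.fibD X I S.X₂)) (hss : ParSh.IsGPSemistable k X I α F₁ b) :
    ParSh.gpDeg k X α S.X₂ F₁ b * (c : ℝ) ≤ ParSh.gpDeg k X α S.X₃ (ParSh.gpCoinduced k X I S.g F₁) c * (b : ℝ) ∧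
      (0 < a → 0 < c → ParSh.IsGPStable k X I α F₁ b →
        ParSh.gpDeg k X α S.X₂ F₁ b * (c : ℝ) < ParSh.gpDeg k X α S.X₃ (ParSh.gpCoinduced k X I S.g F₁) c * (b : ℝ)) := by
  haveI : IsLocallyNoetherian X := LocallyOfFiniteType.isLocallyNoetherian (X ↘ Spec (CommRingCat.of k))
  haveI := hS.mono_f
  have hadd := gpDeg_le_add (k := k) hdim I hD α hα0 hS h₁ h₂ h₃ F₁
  have hr := rank_add hS h₁ h₂ h₃
  have hr' : (a : ℝ) + (c : ℝ) = (b : ℝ) := by exact_mod_cast hr
  have hb : (0 : ℝ) ≤ (b : ℝ) := Nat.cast_nonneg _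
  refine ⟨?_, fun ha hc hst => ?_⟩
  · rcases Nat.eq_zero_or_pos a with rfl | ha
    · have hz : IsZero S.X₁ := isZero_of_stalks _ fun y => by
        obtain ⟨hf, hfin, h0⟩ := finrank_stalk h₁ y
        exact Module.finrank_zero_iff.1 h0
      have h0 : Subsingleton (ParSh.fibD X I S.X₁) := by
        have hz' : IsZero (ParSh.resD I S.X₁) := ((DCoh.tensorBi (X := X)).flip.obj (ClSub.quotMod I)).map_isZero hz
        exact (germs_bijective (k := k) (ParSh.resD I S.X₁) Set.finite_empty (fun _ h => h.elim) fun y _ =>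
          ModuleCat.subsingleton_of_isZero ((DerSch.stalkFunctor X y).map_isZero hz')).1.subsingleton
      have he : Curv2.euler k X S.X₁ = 0 := by
        rw [H25Euler.euler_eq_sum _ 0 fun p _ => ?_, Finset.sum_range_zero]
        have hst0 : ∀ y, y ∉ (∅ : Set X) → Subsingleton (S.X₁.presheaf.stalk y) := fun y _ =>
          ModuleCat.subsingleton_of_isZero ((DerSch.stalkFunctor X y).map_isZero hz)
        rcases Nat.eq_zero_or_pos p with rfl | hp
        · exact (germs_bijective (k := k) S.X₁ Set.finite_empty (fun _ h => h.elim) hst0).1.subsingleton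
        · exact subsingleton_HH_of_finite_support _ Set.finite_empty (fun _ h => h.elim) hst0 hp
      have hd0 : ParSh.gpDeg k X α S.X₁ (ParSh.gpInduced k X I S.f F₁) 0 = 0 := by
        simp [ParSh.gpDeg, ParSh.gpWt, Curv2.deg, he, Module.finrank_zero_of_subsingleton]
      rw [hd0, zero_add] at hadd
      rw [show (c : ℝ) = (b : ℝ) by simpa using hr']
      exact mul_le_mul_of_nonneg_right hadd hb
    · have := hss S.X₁ a S.f inferInstance ha h₁
      rw [show (c : ℝ) = (b : ℝ) - (a : ℝ) by linarith, mul_sub]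
      nlinarith [mul_le_mul_of_nonneg_right hadd hb]
  · have := hst S.X₁ a S.f inferInstance ha (by omega) h₁
    rw [show (c : ℝ) = (b : ℝ) - (a : ℝ) by linarith, mul_sub]
    nlinarith [mul_le_mul_of_nonneg_right hadd hb]

variable [Smooth (X ↘ Spec (CommRingCat.of k))]

theorem main (hdim : topologicalKrullDim X ≤ 1) (I : X.IdealSheafData) (hD : FGA.IsEffCartier I)
    (α : ℝ) (hα0 : 0 ≤ α) (hα1 : α < 1)
    {E F : X.Modules} {n m : ℕ} (hn : 0 < n) (hm : 0 < m)
    (hE : FlatMod.IsFinLocFreeOfRank n E) (hF : FlatMod.IsFinLocFreeOfRank m F)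
    (F₁ : Submodule k (ParSh.fibD X I E)) (F₁' : Submodule k (ParSh.fibD X I F))
    (hEss : ParSh.IsGPSemistable k X I α F₁ n) (hFss : ParSh.IsGPSemistable k X I α F₁' m)
    (hμ : ParSh.gpDeg k X α E F₁ n * (m : ℝ) = ParSh.gpDeg k X α F F₁' m * (n : ℝ))
    (f : E ⟶ F) (hf : ParSh.IsGPHom k X I F₁ F₁' f) :
    (∃ r₀ : ℕ, FlatMod.IsFinLocFreeOfRank r₀ (cokernel f)) ∧
      (f ≠ 0 → ParSh.IsGPStable k X I α F₁ n → Mono f) := by
  haveI : IsLocallyNoetherian X := LocallyOfFiniteType.isLocallyNoetherian (X ↘ Spec (CommRingCat.of k))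
  by_cases hf0 : f = 0
  · subst hf0
    refine ⟨⟨m, fun x => ?_⟩, fun h => absurd rfl h⟩
    obtain ⟨U, hxU, ⟨e⟩⟩ := hF x
    exact ⟨U, hxU, ⟨(Scheme.Modules.restrictFunctor U.ι).mapIso cokernelZeroIsoTarget ≪≫ e⟩⟩
  have hEc : Coh.IsCoh E := H16Derived.KFlat.Stalk.isCoh_of_isFinLocFree fun y => let ⟨U, hU⟩ := hE y; ⟨U, n, hU⟩
  have hFc : Coh.IsCoh F := H16Derived.KFlat.Stalk.isCoh_of_isFinLocFree fun y => let ⟨U, hU⟩ := hF y; ⟨U, m, hU⟩
  -- the image
  let G := Abelian.image f
  let ι : G ⟶ F := Abelian.image.ι f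
  let π : E ⟶ G := Abelian.factorThruImage f
  have hπι : π ≫ ι = f := Abelian.image.fac f
  have hC := H10Coh.isCoh_cokernel f hEc.1 hFc
  have hGc : Coh.IsCoh G := H10Coh.isCoh_kernel (cokernel.π f) hFc hC.1
  have hGtf : TorSh.IsTorsionFree G :=
    H25Euler.isTorsionFree_of_mono ι (isTorsionFree_of_locFree fun y => let ⟨U, hU⟩ := hF y; ⟨U, m, hU⟩)
  obtain ⟨r, hG⟩ := exists_rank k hdim hGc hGtf
  have hr : 0 < r := by
    rcases Nat.eq_zero_or_pos r with rfl | h
    · refine absurd ?_ hf0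
      rw [← hπι, (isZero_of_stalks G fun y => by
        obtain ⟨-, -, h0⟩ := finrank_stalk hG y
        haveI := (finrank_stalk hG y).1
        haveI := (finrank_stalk hG y).2.1
        exact Module.finrank_zero_iff.1 h0).eq_of_src ι 0, comp_zero]
    · exact h
  -- the kernel
  have hKc : Coh.IsCoh (kernel π) := H10Coh.isCoh_kernel π hEc hGc.1
  obtain ⟨a, hK⟩ := exists_rank k hdim hKc
    (H25Euler.isTorsionFree_of_mono (kernel.ι π) (isTorsionFree_of_locFree fun y => let ⟨U, hU⟩ := hE y; ⟨U, n, hU⟩))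
  let S := ShortComplex.mk (kernel.ι π) π (kernel.condition π)
  have hS : S.ShortExact := { exact := ShortComplex.exact_kernel _ }
  obtain ⟨hq, hqst⟩ := mul_le_of_quotient (k := k) hdim I hD α hα0 (S := S) hS hK hE hG F₁ hEss
  -- the saturation
  have hCι : Coh.IsCoh (cokernel ι) := H10Coh.isCoh_cokernel ι hGc.1 hFc
  obtain ⟨Q, q, hq', hQ, hQtf, hker⟩ := notMem_support_torsion hCι
  haveI := hq'
  let p : F ⟶ Q := cokernel.π ι ≫ q
  haveI : Epi p := epi_comp _ _
  have hGc' : Coh.IsCoh (kernel p) := H10Coh.isCoh_kernel p hFc hQ.1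
  obtain ⟨r', hG'⟩ := exists_rank k hdim hGc'
    (H25Euler.isTorsionFree_of_mono (kernel.ι p) (isTorsionFree_of_locFree fun y => let ⟨U, hU⟩ := hF y; ⟨U, m, hU⟩))
  let j : G ⟶ kernel p := kernel.lift p ι (by rw [← Category.assoc, cokernel.condition, zero_comp])
  have hj : j ≫ kernel.ι p = ι := kernel.lift_ι _ _ _
  haveI : Mono j := mono_of_mono_fac hj
  obtain ⟨c, hQr⟩ := exists_rank k hdim hQ hQtf
  obtain ⟨t, hCr⟩ : ∃ t, r' = r + t := ⟨r' - r, (Nat.add_sub_cancel' (rank_le_of_mono (genericPoint X) hG hG' j)).symm⟩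
  have hrr : r' = r := by
    have h1 := rank_add (S := ShortComplex.mk (kernel.ι p) p (kernel.condition p))
      { exact := ShortComplex.exact_kernel _ } hG' hF hQr
    letI : Field (X.presheaf.stalk (genericPoint X)) := inferInstanceAs (Field X.functionField)
    let T := DerSch.stalkFunctor X (genericPoint X)
    have hT₁ := (show (ShortComplex.mk ι (cokernel.π ι) (cokernel.condition ι)).ShortExact from
      { exact := ShortComplex.exact_cokernel _ }).map_of_exact T
    have hT₂ := (show (ShortComplex.mk (kernel.ι q) q (kernel.condition q)).ShortExact from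
      { exact := ShortComplex.exact_kernel _ }).map_of_exact T
    obtain ⟨-, fG, rG⟩ := finrank_stalk hG (genericPoint X)
    obtain ⟨-, fF, rF⟩ := finrank_stalk hF (genericPoint X)
    obtain ⟨-, fQ, rQ⟩ := finrank_stalk hQr (genericPoint X)
    haveI : Module.Finite (X.presheaf.stalk (genericPoint X)) (T.obj G) := fG
    haveI : Module.Finite (X.presheaf.stalk (genericPoint X)) (T.obj F) := fF
    have hinj : Function.Injective (T.map q).hom := LinearMap.ker_eq_bot.1 (by
      refine hT₂.exact.moduleCat_range_eq_ker.symm.trans ?_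
      haveI : Subsingleton (T.obj (kernel q)) := not_not.1 hker
      refine LinearMap.range_eq_bot.2 (LinearMap.ext fun x => ?_)
      exact (congrArg _ ((not_not.1 hker : Subsingleton (T.obj (kernel q))).elim x 0)).trans (map_zero _))
    have he : LinearMap.ker (T.map p).hom = LinearMap.range (T.map ι).hom := by
      rw [show T.map p = T.map (cokernel.π ι) ≫ T.map q from T.map_comp _ _, ModuleCat.hom_comp,
        LinearMap.ker_comp_of_ker_eq_bot _ (LinearMap.ker_eq_bot.2 hinj)]
      exact hT₁.exact.moduleCat_range_eq_ker.symm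
    have h := LinearMap.finrank_range_add_finrank_ker (T.map p).hom
    have hsurj := (ModuleCat.epi_iff_surjective _).1 (inferInstance : Epi (T.map p))
    have e1 : Module.finrank (X.presheaf.stalk (genericPoint X)) (LinearMap.range (T.map ι).hom) = r :=
      (LinearMap.finrank_range_of_inj ((ModuleCat.mono_iff_injective _).1 (inferInstance : Mono (T.map ι)))).trans rG
    rw [he, e1, LinearMap.range_eq_top.2 hsurj, finrank_top] at h
    have e2 : Module.finrank (X.presheaf.stalk (genericPoint X)) (T.obj F) = m := rF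
    have e3 : Module.finrank (X.presheaf.stalk (genericPoint X)) (T.obj Q) = c := rQ
    rw [e2, e3] at h
    omega
  subst hrr
  let G₁ := ParSh.gpCoinduced k X I π F₁
  let G₁' := ParSh.gpInduced k X I (kernel.ι p) F₁'
  have hjhom : ParSh.IsGPHom k X I G₁ G₁' j := by
    show (F₁.map (ParSh.fibDMap k X I π)).map (ParSh.fibDMap k X I j) ≤ F₁'.comap (ParSh.fibDMap k X I (kernel.ι p))
    rw [← Submodule.map_le_iff_le_comap, ← Submodule.map_comp, ← Submodule.map_comp,
      ← fibDMap_comp I j, hj, ← fibDMap_comp I π, hπι]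
    exact hf
  obtain ⟨hle, heq⟩ := gpDeg_le_and_eq_iff (k := k) hdim I hD α hα0 hα1 hG hG' G₁ G₁' j hjhom
  have hF' := hFss (kernel p) r' (kernel.ι p) inferInstance hr hG'
  have hn' : (0 : ℝ) < n := by exact_mod_cast hn
  have hm' : (0 : ℝ) < m := by exact_mod_cast hm
  have h1 := mul_le_mul_of_nonneg_right hq hm'.le
  have h2 := mul_le_mul_of_nonneg_right hF' hn'.le
  have hμ' : ParSh.gpDeg k X α E F₁ n * (r' : ℝ) * (m : ℝ) = ParSh.gpDeg k X α F F₁' m * (r' : ℝ) * (n : ℝ) := by
    linear_combination (r' : ℝ) * hμ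
  refine ⟨⟨c, ?_⟩, fun _ hst => ?_⟩
  · have hdeg : ParSh.gpDeg k X α G G₁ r' = ParSh.gpDeg k X α (kernel p) G₁' r' := by
      refine le_antisymm hle (le_of_mul_le_mul_right ?_ (mul_pos hn' hm'))
      change _ ≤ ParSh.gpDeg k X α G G₁ r' * _
      nlinarith
    haveI := (heq.1 hdeg).1
    have e : cokernel f ≅ Q := by
      haveI : Epi π := inferInstance
      refine cokernelIsoOfEq hπι.symm ≪≫ cokernelEpiComp π ι ≪≫ cokernelIsoOfEq hj.symm ≪≫
        cokernelEpiComp j (kernel.ι p) ≪≫
        (cokernelIsCokernel _).coconePointUniqueUpToIso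
          (show (ShortComplex.mk (kernel.ι p) p (kernel.condition p)).ShortExact from
            { exact := ShortComplex.exact_kernel _ }).gIsCokernel
    intro x
    obtain ⟨U, hxU, ⟨e'⟩⟩ := hQr x
    exact ⟨U, hxU, ⟨(Scheme.Modules.restrictFunctor U.ι).mapIso e ≪≫ e'⟩⟩
  · rcases Nat.eq_zero_or_pos a with rfl | ha
    · have hz : IsZero (kernel π) := isZero_of_stalks _ fun y => by
        obtain ⟨h₁, h₂, h0⟩ := finrank_stalk hK y
        exact Module.finrank_zero_iff.1 h0
      haveI : Mono π := Preadditive.mono_of_kernel_zero (hz.eq_of_src _ _)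
      rw [← hπι]
      exact mono_comp _ _
    · exfalso
      have h3 := mul_lt_mul_of_pos_right (hqst ha hr hst) hm'
      have h4 := mul_le_mul_of_nonneg_right (mul_le_mul_of_nonneg_right hle hn'.le) hm'.le
      nlinarith

end Groth.Agent.H25Par
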