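import Groth.Agent.H25Par.ParSat
import Groth.Agent.H25Par.GPSlope
import Groth.Agent.H25Par.ParAdd

/-! # Parabolic homomorphisms out of stable bundles -/

set_option autoImplicit false

universe u

open CategoryTheory CategoryTheory.Limits AlgebraicGeometry TopologicalSpace Opposite

namespace Groth.Agent.H25Par

variable {k : Type u} [Field k] {X : Scheme.{u}} [X.Over (Spec (CommRingCat.of k))]
  [IsProper (X ↘ Spec (CommRingCat.of k))] [IsIntegral X] [IsNoetherian X]
  [Smooth (X ↘ Spec (CommRingCat.of k))]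

/-- The sub-bundle generated by a submodule. -/
theorem exists_saturation (k : Type u) [Field k] [X.Over (Spec (CommRingCat.of k))]
    [IsProper (X ↘ Spec (CommRingCat.of k))] [Smooth (X ↘ Spec (CommRingCat.of k))] (hdim : topologicalKrullDim X ≤ 1) {G F : X.Modules} {r m : ℕ}
    (hG : FlatMod.IsFinLocFreeOfRank r G) (hF : FlatMod.IsFinLocFreeOfRank m F) (ι : G ⟶ F) [Mono ι] :
    ∃ (G' : X.Modules) (j : G ⟶ G') (ι' : G' ⟶ F), Mono j ∧ Mono ι' ∧ j ≫ ι' = ι ∧
      FlatMod.IsFinLocFreeOfRank r G' ∧ FlatMod.IsFinLocFree (cokernel ι') := by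
  have hGc : Coh.IsCoh G := H16Derived.KFlat.Stalk.isCoh_of_isFinLocFree fun y => let ⟨U, hU⟩ := hG y; ⟨U, r, hU⟩
  have hFc : Coh.IsCoh F := H16Derived.KFlat.Stalk.isCoh_of_isFinLocFree fun y => let ⟨U, hU⟩ := hF y; ⟨U, m, hU⟩
  have hCι : Coh.IsCoh (cokernel ι) := H10Coh.isCoh_cokernel ι hGc.1 hFc
  obtain ⟨Q, q, hq', hQ, hQtf, hker⟩ := notMem_support_torsion hCι
  haveI := hq'
  let p : F ⟶ Q := cokernel.π ι ≫ q
  haveI : Epi p := epi_comp _ _
  have hGc' : Coh.IsCoh (kernel p) := H10Coh.isCoh_kernel p hFc hQ.1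
  obtain ⟨r', hG'⟩ := exists_rank k hdim hGc'
    (H25Euler.isTorsionFree_of_mono (kernel.ι p) (isTorsionFree_of_locFree fun y => let ⟨U, hU⟩ := hF y; ⟨U, m, hU⟩))
  let j : G ⟶ kernel p := kernel.lift p ι (by rw [← Category.assoc, cokernel.condition, zero_comp])
  have hj : j ≫ kernel.ι p = ι := kernel.lift_ι _ _ _
  haveI : Mono j := mono_of_mono_fac hj
  obtain ⟨c, hQr⟩ := exists_rank k hdim hQ hQtf
  obtain ⟨t, hCr⟩ : ∃ t, r' = r + t := ⟨r' - r, (Nat.add_sub_cancel' (rank_le_of_mono (genericPoint X) hG hG' j)).symm⟩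
  have hrr : r' = r := by
    have h1 := rank_add (S := ShortComplex.mk (kernel.ι p) p (kernel.condition p))
      { exact := ShortComplex.exact_kernel _ } hG' hF hQr
    letI : Field (X.presheaf.stalk (genericPoint X)) := inferInstanceAs (Field X.functionField)
    let T := DerSch.stalkFunctor X (genericPoint X)
    have hT₁ := (show (ShortComplex.mk ι (cokernel.π ι) (cokernel.condition ι)).ShortExact from
      { exact := ShortComplex.exact_cokernel _ }).map_of_exact T
    have hT₂ := (show (ShortComplex.mk (kernel.ι q) q (kernel.condition q)).ShortExact from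
      { exact := ShortComplex.exact_kernel _ }).map_of_exact T
    obtain ⟨-, fG, rG⟩ := finrank_stalk hG (genericPoint X)
    obtain ⟨-, fF, rF⟩ := finrank_stalk hF (genericPoint X)
    obtain ⟨-, fQ, rQ⟩ := finrank_stalk hQr (genericPoint X)
    haveI : Module.Finite (X.presheaf.stalk (genericPoint X)) (T.obj G) := fG
    haveI : Module.Finite (X.presheaf.stalk (genericPoint X)) (T.obj F) := fF
    have hinj : Function.Injective (T.map q).hom := LinearMap.ker_eq_bot.1 (by
      refine hT₂.exact.moduleCat_range_eq_ker.symm.trans ?_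
      haveI : Subsingleton (T.obj (kernel q)) := not_not.1 hker
      refine LinearMap.range_eq_bot.2 (LinearMap.ext fun x => ?_)
      exact (congrArg _ ((not_not.1 hker : Subsingleton (T.obj (kernel q))).elim x 0)).trans (map_zero _))
    have he : LinearMap.ker (T.map p).hom = LinearMap.range (T.map ι).hom := by
      rw [show T.map p = T.map (cokernel.π ι) ≫ T.map q from T.map_comp _ _, ModuleCat.hom_comp,
        LinearMap.ker_comp_of_ker_eq_bot _ (LinearMap.ker_eq_bot.2 hinj)]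
      exact hT₁.exact.moduleCat_range_eq_ker.symm
    have h := LinearMap.finrank_range_add_finrank_ker (T.map p).hom
    have hsurj := (ModuleCat.epi_iff_surjective _).1 (inferInstance : Epi (T.map p))
    have e1 : Module.finrank (X.presheaf.stalk (genericPoint X)) (LinearMap.range (T.map ι).hom) = r :=
      (LinearMap.finrank_range_of_inj ((ModuleCat.mono_iff_injective _).1 (inferInstance : Mono (T.map ι)))).trans rG
    rw [he, e1, LinearMap.range_eq_top.2 hsurj, finrank_top] at h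
    have e2 : Module.finrank (X.presheaf.stalk (genericPoint X)) (T.obj F) = m := rF
    have e3 : Module.finrank (X.presheaf.stalk (genericPoint X)) (T.obj Q) = c := rQ
    rw [e2, e3] at h
    omega
  subst hrr
  refine ⟨kernel p, j, kernel.ι p, inferInstance, inferInstance, hj, hG', fun x => ?_⟩
  obtain ⟨U, hxU, ⟨e'⟩⟩ := hQr x
  let e : cokernel (kernel.ι p) ≅ Q := (cokernelIsCokernel _).coconePointUniqueUpToIso
    (show (ShortComplex.mk (kernel.ι p) p (kernel.condition p)).ShortExact from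
      { exact := ShortComplex.exact_kernel _ }).gIsCokernel
  exact ⟨U, c, hxU, ⟨(Scheme.Modules.restrictFunctor U.ι).mapIso e ≪≫ e'⟩⟩

/-- Parabolic degrees add along parabolic extensions of bundles. -/
theorem parDeg_add (hdim : topologicalKrullDim X ≤ 1) (I : X.IdealSheafData) (hD : FGA.IsEffCartier I)
    {K E V : X.Modules} {a b c : ℕ} {i : K ⟶ E} {p : E ⟶ V} [Epi p] {w : i ≫ p = 0}
    (hS : (ShortComplex.mk i p w).ShortExact) (hK : FlatMod.IsFinLocFreeOfRank a K)
    (hE : FlatMod.IsFinLocFreeOfRank b E) (hV : FlatMod.IsFinLocFreeOfRank c V)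
    (𝓔 : ParSh.Str E) (h : 𝓔.Along I) :
    𝓔.parDeg k X b = (𝓔.induced i).parDeg k X a + (𝓔.coinduced p).parDeg k X c := by
  haveI : Mono i := hS.mono_f
  have hsat : FlatMod.IsFinLocFree (cokernel i) := fun x => by
    obtain ⟨U, hxU, ⟨e'⟩⟩ := hV x
    exact ⟨U, c, hxU, ⟨(Scheme.Modules.restrictFunctor U.ι).mapIso
      ((cokernelIsCokernel i).coconePointUniqueUpToIso hS.gIsCokernel) ≪≫ e'⟩⟩
  have hc : ∀ {M : X.Modules} {n : ℕ}, FlatMod.IsFinLocFreeOfRank n M → Coh.IsCoh M := fun {M n} h =>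
    H16Derived.KFlat.Stalk.isCoh_of_isFinLocFree fun y => let ⟨U, hU⟩ := h y; ⟨U, n, hU⟩
  have key : ∀ j, (Curv2.euler k X (((𝓔.induced i).pieceX j : Subobject K) : X.Modules) : ℝ) +
      (Curv2.euler k X (((𝓔.coinduced p).pieceX j : Subobject V) : X.Modules) : ℝ) =
      (Curv2.euler k X ((𝓔.pieceX j : Subobject E) : X.Modules) : ℝ) := by
    intro j
    have hA := hc (rank_piece k hdim I hD hK (along_induced I h i hsat) j)
    have hB := hc (rank_piece k hdim I hD hE h j)
    have hC := hc (rank_piece k hdim I hD hV (along_coinduced I h p) j)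
    obtain ⟨T, hT, h1, h2, h3⟩ := shortExact_piece hS (𝓔.pieceX j)
    erw [H25Euler.induced_pieceX, H25Euler.coinduced_pieceX] at *
    have hadd := H25Euler.euler_add (k := k) hT (by rw [h1]; exact hA) (by rw [h2]; exact hB) (by rw [h3]; exact hC)
    rw [h1, h2, h3] at hadd
    exact_mod_cast hadd.symm
  have hr := rank_add (S := ShortComplex.mk i p w) hS hK hE hV
  have he : Curv2.euler k X E = Curv2.euler k X K + Curv2.euler k X V :=
    H25Euler.euler_add (k := k) (S := ShortComplex.mk i p w) hS (hc hK) (hc hE) (hc hV)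
  have hw : 𝓔.parWt k X = (𝓔.induced i).parWt k X + (𝓔.coinduced p).parWt k X := by
    refine Eq.trans ?_ (Finset.sum_add_distrib (s := (Finset.univ : Finset (Fin (𝓔.l + 1)))))
    refine Finset.sum_congr rfl fun j _ => ?_
    show _ = 𝓔.wt j * _ + 𝓔.wt j * _
    have h1 := key j.castSucc
    erw [ParSh.Str.pieceX_castSucc (𝓔.induced i), ParSh.Str.pieceX_castSucc (𝓔.coinduced p),
      ParSh.Str.pieceX_castSucc 𝓔] at h1
    rw [← h1, ← key j.succ]
    simp only [ParSh.Str.induced, ParSh.Str.coinduced]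
    ring
  simp only [ParSh.Str.parDeg, Curv2.deg, he, ← hr, hw, Int.cast_sub, Int.cast_mul, Int.cast_add, Int.cast_natCast]
  push_cast
  ring

theorem isParHom_comp {F F' F'' : X.Modules} (𝓕 : ParSh.Str F) (i : F' ⟶ F) (p : F ⟶ F'') [Epi p]
    (φ : F'' ⟶ F') (hφ : ParSh.IsParHom (𝓕.coinduced p) (𝓕.induced i) φ) :
    ParSh.IsParHom 𝓕 𝓕 (p ≫ φ ≫ i) := fun a h0 h1 => by
  obtain ⟨t, ht⟩ := exists_index 𝓕 a
  have h := hφ a h0 h1
  rw [at_eq (𝓕.coinduced p) (t := t) ht, at_eq (𝓕.induced i) (t := t) ht] at h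
  erw [H25Euler.coinduced_pieceX, H25Euler.induced_pieceX] at h
  erw [Limits.pullback_factors_iff] at h
  rw [at_eq 𝓕 ht]
  refine (Subobject.factors_iff _ _).2 ⟨factorThruImageSubobject ((𝓕.pieceX t).arrow ≫ p) ≫
    Subobject.factorThru _ _ h, ?_⟩
  show (_ ≫ _) ≫ (𝓕.pieceX t).arrow = _
  rw [Category.assoc, Subobject.factorThru_arrow, Category.assoc, imageSubobject_arrow_comp_assoc, Category.assoc]

theorem eq_zero_of_stable (hdim : topologicalKrullDim X ≤ 1) (I : X.IdealSheafData) (hD : FGA.IsEffCartier I)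
    {F : X.Modules} {r : ℕ} (hF : FlatMod.IsFinLocFreeOfRank r F) (𝓕 : ParSh.Str F) (h𝓕 : 𝓕.Along I)
    (hst : ParSh.IsParStable k X 𝓕 r) (ψ : F ⟶ F) (hψ : ParSh.IsParHom 𝓕 𝓕 ψ) (hsq : ψ ≫ ψ = 0) : ψ = 0 := by
  by_contra hne
  have hFl : FlatMod.IsFinLocFree F := fun y => let ⟨U, hU⟩ := hF y; ⟨U, r, hU⟩
  have hFc : Coh.IsCoh F := H16Derived.KFlat.Stalk.isCoh_of_isFinLocFree hFl
  let ι : Abelian.image ψ ⟶ F := Abelian.image.ι ψ
  let π : F ⟶ Abelian.image ψ := Abelian.factorThruImage ψ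
  have hπι : π ≫ ι = ψ := Abelian.image.fac ψ
  have hGc : Coh.IsCoh (Abelian.image ψ) :=
    H10Coh.isCoh_kernel (cokernel.π ψ) hFc (H10Coh.isCoh_cokernel ψ hFc.1 hFc).1
  obtain ⟨c, hG⟩ := exists_rank k hdim hGc (H25Euler.isTorsionFree_of_mono ι (isTorsionFree_of_locFree hFl))
  obtain ⟨a, hK⟩ := exists_rank k hdim (H10Coh.isCoh_kernel π hFc hGc.1)
    (H25Euler.isTorsionFree_of_mono (kernel.ι π) (isTorsionFree_of_locFree hFl))
  have hz : ∀ {M : X.Modules}, FlatMod.IsFinLocFreeOfRank 0 M → IsZero M := fun {M} h0 =>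
    isZero_of_stalks M fun y => by
      obtain ⟨h₁, h₂, h₃⟩ := finrank_stalk h0 y
      exact Module.finrank_zero_iff.1 h₃
  have hS : (ShortComplex.mk (kernel.ι π) π (kernel.condition π)).ShortExact := { exact := ShortComplex.exact_kernel _ }
  have hr := rank_add hS hK hF hG
  have hc : 0 < c := Nat.pos_of_ne_zero fun h0 => hne (by
    subst h0
    rw [← hπι, (hz hG).eq_of_src ι 0, comp_zero])
  have ha : 0 < a := Nat.pos_of_ne_zero fun h0 => hne (by
    subst h0
    haveI : Mono π := Preadditive.mono_of_kernel_zero ((hz hK).eq_of_src _ _)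
    haveI : Mono ψ := hπι ▸ mono_comp π ι
    exact (cancel_mono ψ).1 (hsq.trans zero_comp.symm))
  have hK' := hst (kernel π) a (kernel.ι π) inferInstance ha (by omega) hK
  obtain ⟨G', j, ι', hjm, hι'm, hj, hG', hsat⟩ := exists_saturation k hdim hG hF ι
  haveI := hjm
  haveI := hι'm
  have hG'' := hst G' c ι' hι'm hc (by omega) hG'
  have hle := parDeg_le (k := k) hdim I hD 𝓕 h𝓕 𝓕 h𝓕 π j ι' (by rw [hj, hπι]; exact hψ) hG hG' hsat
  have hadd := parDeg_add (k := k) hdim I hD hS hK hF hG 𝓕 h𝓕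
  have hr' : (a : ℝ) + (c : ℝ) = (r : ℝ) := by exact_mod_cast hr
  have h5 := mul_le_mul_of_nonneg_right hle (Nat.cast_nonneg (α := ℝ) r)
  rw [show (a : ℝ) = (r : ℝ) - (c : ℝ) by linarith, mul_sub] at hK'
  nlinarith [congrArg (· * (r : ℝ)) hadd]

end Groth.Agent.H25Par
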