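import Groth.Agent.H16Derived.KFlat.PerfConc
import Groth.Agent.H29Ref.Generic

/-! # Ranks and monomorphisms of finite locally free modules -/

set_option autoImplicit false

universe u

open CategoryTheory CategoryTheory.Limits AlgebraicGeometry TensorProduct

namespace Groth.Agent.H25Par

open Groth.Agent.H16Derived.KFlat Groth.Agent.H16Derived.KFlat.Stalk

variable {X : Scheme.{u}} [IsLocallyNoetherian X]

theorem finrank_stalk {M : X.Modules} {r : ℕ} (h : FlatMod.IsFinLocFreeOfRank r M) (x : X) :
    Module.Free (X.presheaf.stalk x) (M.presheaf.stalk x) ∧ Module.Finite (X.presheaf.stalk x) (M.presheaf.stalk x) ∧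
      Module.finrank (X.presheaf.stalk x) (M.presheaf.stalk x) = r := by
  have hf : FlatMod.IsFinLocFree M := fun y => let ⟨U, hU⟩ := h y; ⟨U, r, hU⟩
  haveI : Module.Flat (X.presheaf.stalk x) (M.presheaf.stalk x) := Stalk.isFlat_of_isFinLocFree hf x
  haveI : Module.Finite (X.presheaf.stalk x) (M.presheaf.stalk x) :=
    H29Ref.finite_stalk M (Stalk.isCoh_of_isFinLocFree hf).2 x
  haveI : IsNoetherianRing (X.presheaf.stalk x) := inferInstance
  haveI : Module.Free (X.presheaf.stalk x) (M.presheaf.stalk x) := Module.free_of_flat_of_isLocalRing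
  refine ⟨inferInstance, inferInstance, ?_⟩
  rw [← rfd_of_isFinLocFreeOfRank h x]
  unfold rfd
  rw [Module.finrank_baseChange]

theorem rank_le_of_mono (x : X) {F E : X.Modules} {r' r : ℕ} (hF : FlatMod.IsFinLocFreeOfRank r' F)
    (hE : FlatMod.IsFinLocFreeOfRank r E) (i : F ⟶ E) [Mono i] : r' ≤ r := by
  obtain ⟨hf, hfin, hr'⟩ := finrank_stalk hF x
  obtain ⟨ef, efin, hr⟩ := finrank_stalk hE x
  haveI : Mono ((DerSch.stalkFunctor X x).map i) := inferInstance
  have hinj : Function.Injective ((DerSch.stalkFunctor X x).map i).hom :=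
    (ModuleCat.mono_iff_injective _).1 inferInstance
  haveI : Module.Finite (X.presheaf.stalk x) ((DerSch.stalkFunctor X x).obj E) := efin
  haveI : Module.Free (X.presheaf.stalk x) ((DerSch.stalkFunctor X x).obj E) := ef
  haveI : Module.Free (X.presheaf.stalk x) ((DerSch.stalkFunctor X x).obj F) := hf
  have := LinearMap.finrank_le_finrank_of_injective hinj
  exact hr' ▸ hr ▸ this

end Groth.Agent.H25Par
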