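import Groth.Agent.H10Coh.FlasqueLocal
import Groth.Agent.H10Coh.Affine
import Groth.Agent.H10Coh.Support
import Groth.Agent.H28Top.Dim

/-! # Sheaves supported on finitely many closed points are flasque -/

set_option autoImplicit false

universe u

open CategoryTheory CategoryTheory.Limits Opposite TopologicalSpace AlgebraicGeometry

namespace Groth.Agent.H25Par

section top

variable {X : TopCat.{u}}

theorem section_eq_zero (F : CohTop.Ab X) {V : Opens X} (h : ∀ y ∈ V, Subsingleton (TopCat.Presheaf.stalk F.obj y : AddCommGrpCat.{u}))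
    (s : F.obj.obj (op V)) : s = 0 :=
  TopCat.Presheaf.section_ext F V s 0 fun y hy => (h y hy).elim _ _

theorem flasque_of_finite_support (F : CohTop.Ab X) {S : Set X} (hS : S.Finite)
    (hcl : ∀ z ∈ S, IsClosed ({z} : Set X)) (h : ∀ y, y ∉ S → Subsingleton (TopCat.Presheaf.stalk F.obj y : AddCommGrpCat.{u})) :
    H10Coh.Flasque F := by
  classical
  have hclosed : ∀ T ⊆ S, IsClosed T := fun T hT => by
    rw [← Set.biUnion_of_singleton T]
    exact (hS.subset hT).isClosed_biUnion fun z hz => hcl z (hT hz)
  refine H10Coh.flasque_of_flasqueOn F fun x => ?_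
  refine ⟨⟨(S \ {x})ᶜ, (hclosed _ Set.sdiff_subset).isOpen_compl⟩, fun hx => hx.2 rfl, fun W V hVW hWU s => ?_⟩
  by_cases hxV : x ∈ V
  · let U₀ : Opens X := ⟨Sᶜ, (hclosed S le_rfl).isOpen_compl⟩
    let B : ULift.{u} Bool → Opens X := fun b => if b.down then V else W ⊓ U₀
    let t : ∀ b, F.obj.obj (op (B b)) := fun b =>
      if hb : b.down = true then F.obj.map (homOfLE (show B b ≤ V by simp [B, hb])).op s else 0
    have hcmp : TopCat.Presheaf.IsCompatible F.obj B t := by
      intro a b
      by_cases hab : a.down = b.down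
      · have : a = b := ULift.ext _ _ hab
        subst this
        rfl
      · refine (section_eq_zero F (fun y hy => h y fun hyS => ?_) _).trans
          (section_eq_zero F (fun y hy => h y fun hyS => ?_) _).symm <;>
        · rcases Bool.eq_false_or_eq_true a.down with ha | ha
          · have hb : b.down = false := by
              rcases Bool.eq_false_or_eq_true b.down with hb | hb
              · exact absurd (ha.trans hb.symm) hab
              · exact hb
            have := hy.2
            simp only [B, hb, Bool.false_eq_true, if_false] at this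
            exact this.2 hyS
          · have := hy.1
            simp only [B, ha, Bool.false_eq_true, if_false] at this
            exact this.2 hyS
    obtain ⟨g, hg, -⟩ := TopCat.Sheaf.existsUnique_gluing (F := F) B t hcmp
    have hcov : W ≤ iSup B := fun y hy => by
      by_cases hyS : y ∈ S
      · have : y = x := by
          by_contra hne
          exact hWU hy ⟨hyS, hne⟩
        exact Opens.mem_iSup.2 ⟨⟨true⟩, by simpa [B, this] using hxV⟩
      · exact Opens.mem_iSup.2 ⟨⟨false⟩, by simpa [B] using ⟨hy, hyS⟩⟩
    refine ⟨F.obj.map (homOfLE hcov).op g, ?_⟩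
    have h1 := hg ⟨true⟩
    have h2 : t ⟨true⟩ = F.obj.map (homOfLE (show B ⟨true⟩ ≤ V from le_rfl)).op s := rfl
    rw [h2] at h1
    rw [H10Coh.res_res F hcov hVW]
    have h3 : F.obj.map (homOfLE (le_iSup B ⟨true⟩)).op g = s :=
      h1.trans (H10Coh.res_self F _ s)
    exact h3
  · refine ⟨0, (map_zero _).trans (section_eq_zero F (fun y hy => h y fun hyS => ?_) s).symm⟩
    exact hWU (hVW hy) ⟨hyS, fun e => hxV (e ▸ hy)⟩

end top

theorem subsingleton_HH_of_finite_support {X : Scheme.{u}} (M : X.Modules) {S : Set X} (hS : S.Finite)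
    (hcl : ∀ z ∈ S, IsClosed ({z} : Set X)) (h : ∀ y, y ∉ S → Subsingleton (M.presheaf.stalk y))
    {p : ℕ} (hp : 0 < p) : Subsingleton (Coh.HH X M p) := by
  obtain ⟨n, rfl⟩ := Nat.exists_eq_succ_of_ne_zero hp.ne'
  haveI : Subsingleton (H10Coh.HnM M (n + 1) ⊤) :=
    H10Coh.subsingleton_of_flasque (flasque_of_finite_support (H10Coh.sh M) hS hcl h) n ⊤
  exact (H10Coh.HHEquiv M (n + 1)).toEquiv.subsingleton

end Groth.Agent.H25Par

namespace Groth.Agent.H25Par

theorem subsingleton_HH_of_dim_support_le_zero {X : Scheme.{u}} [IsNoetherian X] {M : X.Modules}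
    (hM : Coh.IsCoh M) (hd : topologicalKrullDim (CohB1.support M) ≤ 0) {p : ℕ} (hp : 0 < p) :
    Subsingleton (Coh.HH X M p) := by
  have hcl : IsClosed (CohB1.support M) := H10Coh.isClosed_support M hM.2
  haveI : QuasiSober (CohB1.support M) := hcl.isClosedEmbedding_subtypeVal.quasiSober
  haveI : CompactSpace (CohB1.support M) := isCompact_iff_compactSpace.mp hcl.isCompact
  haveI : TopologicalSpace.NoetherianSpace (CohB1.support M) :=
    Topology.IsInducing.subtypeVal.noetherianSpace
  obtain ⟨hfin, -⟩ := H28Top.finite_discrete_of_dim_le_zero (X := CohB1.support M) hd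
  haveI := hfin
  refine subsingleton_HH_of_finite_support M (Set.toFinite (CohB1.support M)) (fun z hz => ?_) (fun y hy => ?_) hp
  · have h1 := H28Top.isClosed_singleton_of_dim_le_zero hd (⟨z, hz⟩ : CohB1.support M)
    have h2 := (hcl.isClosedEmbedding_subtypeVal.isClosed_iff_image_isClosed).1 h1
    simpa using h2
  · exact not_not.1 hy

end Groth.Agent.H25Par
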