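import Groth.Agent.H25Par.StalkProd
import Groth.Agent.H10Coh.TensorTilde
import Groth.Agent.H24FSch.ModSysPush
import Groth.Agent.H10Coh.Proper

/-! # Generalized parabolic degrees and monomorphisms of full rank -/

set_option autoImplicit false

universe u

open CategoryTheory CategoryTheory.Limits AlgebraicGeometry TopologicalSpace Opposite

namespace Groth.Agent.H25Par

variable {k : Type u} [Field k] {X : Scheme.{u}} [X.Over (Spec (CommRingCat.of k))]
  [IsProper (X ↘ Spec (CommRingCat.of k))]

theorem isCoh_quotMod (I : X.IdealSheafData) : Coh.IsCoh (ClSub.quotMod I) :=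
  H24FSch.isCoh_pushforward_of_isClosedImmersion I.subschemeι (H10Coh.isCoh_structureModule' _)

theorem finite_fibD (I : X.IdealSheafData) {E : X.Modules} {n : ℕ} (hE : FlatMod.IsFinLocFreeOfRank n E) :
    Module.Finite k (ParSh.fibD X I E) := by
  haveI : IsLocallyNoetherian X := LocallyOfFiniteType.isLocallyNoetherian (X ↘ Spec (CommRingCat.of k))
  exact H10Coh.finite_HH_proper k X (ParSh.resD I E)
    (H10Coh.TT.isCoh_tensorMod (H16Derived.KFlat.Stalk.isCoh_of_isFinLocFree fun y => let ⟨U, hU⟩ := hE y; ⟨U, n, hU⟩)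
      (isCoh_quotMod I)) 0

theorem isZero_of_stalks (M : X.Modules) (h : ∀ y, Subsingleton (M.presheaf.stalk y)) : IsZero M := by
  refine (IsZero.iff_id_eq_zero _).2 (Scheme.Modules.hom_ext _ _ fun U => ?_)
  ext m
  exact section_eq_zero (H10Coh.sh M) (fun y _ => h y) m

variable [IsIntegral X]

theorem isIso_of_euler_eq (hdim : topologicalKrullDim X ≤ 1) {F E : X.Modules} {n : ℕ}
    (hF : FlatMod.IsFinLocFreeOfRank n F) (hE : FlatMod.IsFinLocFreeOfRank n E) (i : F ⟶ E) [Mono i]
    (he : Curv2.euler k X F = Curv2.euler k X E) : IsIso i := by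
  haveI : IsLocallyNoetherian X := LocallyOfFiniteType.isLocallyNoetherian (X ↘ Spec (CommRingCat.of k))
  haveI : CompactSpace X := QuasiCompact.compactSpace_of_compactSpace (X ↘ Spec (CommRingCat.of k))
  haveI : IsNoetherian X := ⟨⟩
  have hFc : Coh.IsCoh F := H16Derived.KFlat.Stalk.isCoh_of_isFinLocFree fun y => let ⟨U, hU⟩ := hF y; ⟨U, n, hU⟩
  have hEc : Coh.IsCoh E := H16Derived.KFlat.Stalk.isCoh_of_isFinLocFree fun y => let ⟨U, hU⟩ := hE y; ⟨U, n, hU⟩
  have hC := H10Coh.isCoh_cokernel i hFc.1 hEc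
  obtain ⟨hTfin, hTcl⟩ := finite_of_isClosed_of_notMem hdim (H10Coh.isClosed_support _ hC.2)
    (notMem_support_coker hF hE i)
  have h0 := euler_sub_eq_h0 (k := k) hFc hEc i hC hTfin hTcl
  haveI : Module.Finite k (Coh.HH X (cokernel i) 0) := H10Coh.finite_HH_proper k X _ hC 0
  haveI : Subsingleton (Coh.HH X (cokernel i) 0) := Module.finrank_zero_iff.1
    (by rw [he, sub_self] at h0; exact_mod_cast h0.symm : Module.finrank k (Coh.HH X (cokernel i) 0) = 0)
  haveI := (germs_bijective (k := k) (cokernel i) hTfin hTcl (fun y hy => not_not.1 hy)).2.subsingleton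
  have hz : IsZero (cokernel i) := isZero_of_stalks _ fun y => by
    by_cases hy : y ∈ CohB1.support (cokernel i)
    · classical
      refine subsingleton_of_forall_eq 0 fun a => ?_
      have := congrFun (Subsingleton.elim (Function.update (0 : ∀ z : CohB1.support (cokernel i), Stk k (cokernel i) z.1) ⟨y, hy⟩ a) 0) ⟨y, hy⟩
      erw [Function.update_self] at this
      exact this
    · exact not_not.1 hy
  haveI : Epi i := Preadditive.epi_of_cokernel_zero (hz.eq_of_tgt _ _)
  exact isIso_of_mono_of_epi i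

/-- Degrees increase along parabolic monomorphisms of full rank, strictly unless an isomorphism. -/
theorem gpDeg_le_and_eq_iff (hdim : topologicalKrullDim X ≤ 1) (I : X.IdealSheafData) (hD : FGA.IsEffCartier I)
    (α : ℝ) (hα0 : 0 ≤ α) (hα1 : α < 1) {E F : X.Modules} {n : ℕ}
    (hE : FlatMod.IsFinLocFreeOfRank n E) (hF : FlatMod.IsFinLocFreeOfRank n F)
    (F₁ : Submodule k (ParSh.fibD X I E)) (F₁' : Submodule k (ParSh.fibD X I F))
    (f : E ⟶ F) [Mono f] (hf : ParSh.IsGPHom k X I F₁ F₁' f) :
    ParSh.gpDeg k X α E F₁ n ≤ ParSh.gpDeg k X α F F₁' n ∧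
      (ParSh.gpDeg k X α E F₁ n = ParSh.gpDeg k X α F F₁' n ↔
        (IsIso f ∧ (0 < α → Submodule.map (ParSh.fibDMap k X I f) F₁ = F₁'))) := by
  haveI := finite_fibD (k := k) I hE
  haveI := finite_fibD (k := k) I hF
  have hK := finrank_ker_fibDMap_le (k := k) hdim hE hF f I hD (finrank_fibD_eq hdim I hD hE hF)
  have hsub : Module.finrank k F₁ ≤ Module.finrank k (F₁'.comap (ParSh.fibDMap k X I f)) :=
    Submodule.finrank_mono (Submodule.map_le_iff_le_comap.1 hf)
  have hc : (Module.finrank k F₁ : ℝ) ≤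
      (Module.finrank k F₁' : ℝ) + (Module.finrank k (LinearMap.ker (ParSh.fibDMap k X I f)) : ℝ) := by
    exact_mod_cast hsub.trans (finrank_comap_le (ParSh.fibDMap k X I f) F₁')
  have hK' : (Module.finrank k (LinearMap.ker (ParSh.fibDMap k X I f)) : ℝ) ≤
      (Curv2.euler k X F : ℝ) - (Curv2.euler k X E : ℝ) := by exact_mod_cast hK
  have hk0 : (0 : ℝ) ≤ Module.finrank k (LinearMap.ker (ParSh.fibDMap k X I f)) := Nat.cast_nonneg _
  simp only [ParSh.gpDeg, ParSh.gpWt, Curv2.deg, Int.cast_sub]
  refine ⟨by nlinarith [mul_le_mul_of_nonneg_left hc hα0, mul_le_of_le_one_left hk0 hα1.le], fun h => ?_, ?_⟩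
  · have hd : (Curv2.euler k X F : ℝ) - (Curv2.euler k X E : ℝ) ≤ 0 := by
      by_contra hpos
      nlinarith [mul_le_mul_of_nonneg_left hc hα0, mul_le_mul_of_nonneg_left hK' hα0,
        mul_lt_mul_of_pos_right hα1 (not_le.1 hpos)]
    have he : Curv2.euler k X E = Curv2.euler k X F := by
      have : (Curv2.euler k X E : ℝ) = (Curv2.euler k X F : ℝ) := by linarith
      exact_mod_cast this
    haveI := isIso_of_euler_eq (k := k) hdim hE hF f he
    refine ⟨inferInstance, fun hα => Submodule.eq_of_le_of_finrank_eq hf ?_⟩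
    have hker : (Module.finrank k (LinearMap.ker (ParSh.fibDMap k X I f)) : ℝ) = 0 := by
      rw [he, sub_self] at hK'
      linarith
    have hfin : Module.finrank k F₁ = Module.finrank k F₁' := by
      rw [he] at h
      exact_mod_cast mul_left_cancel₀ hα.ne' (by linarith : α * (Module.finrank k F₁ : ℝ) = α * (Module.finrank k F₁' : ℝ))
    have hinj : Function.Injective (ParSh.fibDMap k X I f) := LinearMap.ker_eq_bot.1
      (Submodule.finrank_eq_zero.1 (by exact_mod_cast hker))
    rw [← hfin]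
    exact (LinearEquiv.finrank_eq (Submodule.equivMapOfInjective _ hinj F₁)).symm
  · rintro ⟨hiso, hmap⟩
    haveI := hiso
    have he : Curv2.euler k X E = Curv2.euler k X F := H25Euler.euler_congr (asIso f)
    rw [he]
    rcases hα0.lt_or_eq with hα | hα
    · have hinj : Function.Injective (ParSh.fibDMap k X I f) := LinearMap.ker_eq_bot.1
        (Submodule.finrank_eq_zero.1 (by
          rw [he, sub_self] at hK'
          exact_mod_cast le_antisymm hK' hk0))
      rw [← hmap hα, ← LinearEquiv.finrank_eq (Submodule.equivMapOfInjective _ hinj F₁)]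
    · simp [← hα]

end Groth.Agent.H25Par
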