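import Groth.Agent.H25Par.Rank
import Groth.Agent.H25Par.FiniteSupport
import Groth.Agent.H25Euler.Degree
import Groth.Agent.H25Euler.Kill

/-! # Euler characteristics of full rank submodules on integral curves -/

set_option autoImplicit false

universe u

open CategoryTheory CategoryTheory.Limits AlgebraicGeometry TopologicalSpace

namespace Groth.Agent.H25Par

variable {k : Type u} [Field k] {X : Scheme.{u}} [X.Over (Spec (CommRingCat.of k))]
  [IsProper (X ↘ Spec (CommRingCat.of k))] [IsIntegral X]

theorem notMem_support_coker {F E : X.Modules} {n : ℕ} [IsLocallyNoetherian X]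
    (hF : FlatMod.IsFinLocFreeOfRank n F) (hE : FlatMod.IsFinLocFreeOfRank n E) (i : F ⟶ E) [Mono i] :
    genericPoint X ∉ CohB1.support (cokernel i) := by
  letI : Field (X.presheaf.stalk (genericPoint X)) := inferInstanceAs (Field X.functionField)
  obtain ⟨hf, hfin, hr'⟩ := finrank_stalk hF (genericPoint X)
  obtain ⟨ef, efin, hr⟩ := finrank_stalk hE (genericPoint X)
  haveI : Module.Finite (X.presheaf.stalk (genericPoint X)) ((DerSch.stalkFunctor X (genericPoint X)).obj E) := efin
  haveI : Module.Finite (X.presheaf.stalk (genericPoint X)) ((DerSch.stalkFunctor X (genericPoint X)).obj F) := hfin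
  haveI : Mono ((DerSch.stalkFunctor X (genericPoint X)).map i) := inferInstance
  have hinj : Function.Injective ((DerSch.stalkFunctor X (genericPoint X)).map i).hom :=
    (ModuleCat.mono_iff_injective _).1 inferInstance
  have hsurj := (LinearMap.injective_iff_surjective_of_finrank_eq_finrank (hr'.trans hr.symm)).1 hinj
  haveI : Epi ((DerSch.stalkFunctor X (genericPoint X)).map i) := (ModuleCat.epi_iff_surjective _).2 hsurj
  rw [H25Euler.notMem_support_iff]
  have hS := (ShortComplex.exact_cokernel i).map (DerSch.stalkFunctor X (genericPoint X))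
  haveI : Epi ((DerSch.stalkFunctor X (genericPoint X)).map (cokernel.π i)) := inferInstance
  refine (IsZero.iff_id_eq_zero _).2 ((cancel_epi ((DerSch.stalkFunctor X (genericPoint X)).map (cokernel.π i))).1 ?_)
  have h0 : (DerSch.stalkFunctor X (genericPoint X)).map i ≫
      (DerSch.stalkFunctor X (genericPoint X)).map (cokernel.π i) = 0 := by
    rw [← Functor.map_comp, cokernel.condition, Functor.map_zero]
  rw [Category.comp_id, comp_zero]
  exact (cancel_epi ((DerSch.stalkFunctor X (genericPoint X)).map i)).1 (h0.trans comp_zero.symm)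

theorem euler_le_of_mono (hdim : topologicalKrullDim X ≤ 1) {F E : X.Modules} {n : ℕ}
    (hF : FlatMod.IsFinLocFreeOfRank n F) (hE : FlatMod.IsFinLocFreeOfRank n E) (i : F ⟶ E) [Mono i] :
    Curv2.euler k X F ≤ Curv2.euler k X E := by
  haveI : IsLocallyNoetherian X := LocallyOfFiniteType.isLocallyNoetherian (X ↘ Spec (CommRingCat.of k))
  haveI : CompactSpace X := QuasiCompact.compactSpace_of_compactSpace (X ↘ Spec (CommRingCat.of k))
  haveI : IsNoetherian X := ⟨⟩
  have hFc : Coh.IsCoh F := H16Derived.KFlat.Stalk.isCoh_of_isFinLocFree fun y => let ⟨U, hU⟩ := hF y; ⟨U, n, hU⟩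
  have hEc : Coh.IsCoh E := H16Derived.KFlat.Stalk.isCoh_of_isFinLocFree fun y => let ⟨U, hU⟩ := hE y; ⟨U, n, hU⟩
  have hC := H10Coh.isCoh_cokernel i hFc.1 hEc
  have hS : (ShortComplex.mk i (cokernel.π i) (cokernel.condition _)).ShortExact :=
    { exact := ShortComplex.exact_cokernel _ }
  have hadd := H25Euler.euler_add (k := k) (S := ShortComplex.mk i (cokernel.π i) (cokernel.condition _)) hS hFc hEc hC
  dsimp only at hadd
  have hcl : IsClosed (CohB1.support (cokernel i)) := H10Coh.isClosed_support _ hC.2
  have hd : topologicalKrullDim (CohB1.support (cokernel i)) < ((1 : ℕ) : WithBot ℕ∞) :=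
    H25Euler.dim_lt_of_forall_ne _ hcl
      (fun y _ => ⟨genericPoint X, genericPoint_specializes y, notMem_support_coker hF hE i⟩)
      (lt_of_le_of_lt hdim (by norm_num))
  have hd0 : topologicalKrullDim (CohB1.support (cokernel i)) ≤ 0 := by
    generalize topologicalKrullDim (CohB1.support (cokernel i)) = D at hd
    induction D using WithBot.recBotCoe with
    | bot => exact bot_le
    | coe a =>
      induction a using ENat.recTopCoe with
      | top => exact absurd hd (by simp)
      | coe a =>
        have : a < 1 := by exact_mod_cast hd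
        obtain rfl : a = 0 := by omega
        exact le_rfl
  have hv : ∀ p, 1 ≤ p → Subsingleton (Coh.HH X (cokernel i) p) := fun p hp =>
    subsingleton_HH_of_dim_support_le_zero hC hd0 hp
  have hpos : 0 ≤ Curv2.euler k X (cokernel i) := by
    rw [H25Euler.euler_eq_sum _ 1 hv, Finset.sum_range_one, pow_zero, one_mul]
    exact Int.natCast_nonneg _
  rw [hadd]
  exact le_add_of_nonneg_right hpos

end Groth.Agent.H25Par
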