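import Groth.Agent.H25Par.GPSlope
import Groth.Agent.H10Coh.Stab.Simple

/-! # Scalar endomorphisms on the restriction to a divisor -/

set_option autoImplicit false

universe u

open CategoryTheory CategoryTheory.Limits AlgebraicGeometry TopologicalSpace Opposite

namespace Groth.Agent.H25Par

variable {k : Type u} [Field k] {X : Scheme.{u}} [X.Over (Spec (CommRingCat.of k))]

theorem stalkLin_smulMod (M : X.Modules) (c : k) (y : X) (v : M.presheaf.stalk y) :
    H06Mod.stalkLin (Formal.smulMod k M c) y v = constStalk (k := k) y c • v := by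
  obtain ⟨U, hyU, s, rfl⟩ := M.presheaf.exists_germ_eq v
  rw [H06Mod.stalkLin_germ]
  show M.presheaf.germ U y hyU ((show Γ(X, U) from Coh.resTop X (op U) (Coh.toGlobal (X ↘ Spec (CommRingCat.of k)) c)) • s) = _
  refine (H17.AssPts.germ_smul' M hyU _ _).trans (congrArg (· • _) ?_)
  exact TopCat.Presheaf.germ_res_apply X.presheaf (homOfLE (le_top : U ≤ ⊤)) y hyU _

theorem hom_ext_stalkLin {M N : X.Modules} (a b : M ⟶ N)
    (h : ∀ y v, H06Mod.stalkLin a y v = H06Mod.stalkLin b y v) : a = b := by
  refine Scheme.Modules.hom_ext _ _ fun U => ?_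
  ext s
  refine TopCat.Presheaf.section_ext (⟨N.presheaf, N.isSheaf⟩ : TopCat.Sheaf Ab.{u} X) U _ _ fun y hy => ?_
  show N.presheaf.germ U y hy (a.app U s) = N.presheaf.germ U y hy (b.app U s)
  rw [← H06Mod.stalkLin_germ, ← H06Mod.stalkLin_germ]
  exact h y _

theorem resDMap_smulMod (I : X.IdealSheafData) (M : X.Modules) (c : k) :
    ParSh.resDMap I (Formal.smulMod k M c) = Formal.smulMod k (ParSh.resD I M) c :=
  hom_ext_stalkLin _ _ fun y v => by
    obtain ⟨t, rfl⟩ := (H16Derived.KFlat.Stalk.stalkEquiv M (ClSub.quotMod I) y).surjective v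
    refine (H16Derived.KFlat.Stalk.toStalk_naturality y (Formal.smulMod k M c) (𝟙 _) t).trans ?_
    refine Eq.trans ?_ (stalkLin_smulMod _ c y _).symm
    show _ = constStalk (k := k) y c • H16Derived.KFlat.Stalk.toStalk M (ClSub.quotMod I) y t
    rw [← map_smul]
    refine congrArg _ ?_
    induction t using TensorProduct.induction_on with
    | zero => simp
    | add a b ha hb => rw [map_add, ha, hb, smul_add]
    | tmul a b =>
      rw [TensorProduct.map_tmul, stalkLin_smulMod, TensorProduct.smul_tmul']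
      obtain ⟨U, hyU, s, rfl⟩ := (ClSub.quotMod I).presheaf.exists_germ_eq b
      rw [H06Mod.stalkLin_germ]
      rfl

theorem fibDMap_sub_smul (I : X.IdealSheafData) {E : X.Modules} (f : E ⟶ E) (c : k) (x : ParSh.fibD X I E) :
    ParSh.fibDMap k X I (f - Formal.smulMod k E c) x = ParSh.fibDMap k X I f x - c • x := by
  have h : ParSh.resDMap I (f - Formal.smulMod k E c) = ParSh.resDMap I f - Formal.smulMod k (ParSh.resD I E) c := by
    rw [← resD_map, Functor.map_sub, resD_map, resD_map, resDMap_smulMod]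
    rfl
  show Sheaf.H.map _ 0 x = _
  rw [h]
  have h2 : (SheafOfModules.toSheaf X.ringCatSheaf).map (ParSh.resDMap I f - Formal.smulMod k (ParSh.resD I E) c) =
      (SheafOfModules.toSheaf X.ringCatSheaf).map (ParSh.resDMap I f) -
        (SheafOfModules.toSheaf X.ringCatSheaf).map (Formal.smulMod k (ParSh.resD I E) c) :=
    (SheafOfModules.toSheaf X.ringCatSheaf).map_sub
  exact (congrArg (fun t => Sheaf.H.map t 0 x) h2).trans (congr(($((Sheaf.functorH _ 0).map_sub)).hom x))

end Groth.Agent.H25Par
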