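import Groth.Agent.H25Par.FiniteSupport
import Groth.Agent.H25Par.CurveLocFree
import Groth.Agent.H10Coh.HigherDirect
import Groth.Agent.H10Coh.Local

/-! # Submodules between two coherent modules differing in finitely many closed points -/

set_option autoImplicit false

universe u

open CategoryTheory CategoryTheory.Limits AlgebraicGeometry TopologicalSpace Opposite

namespace Groth.Agent.H25Par

variable {X : Scheme.{u}}

/-- A quotient of a quasi-coherent module supported at finitely many closed points is quasi-coherent. -/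
theorem isQCoh_of_epi_finite_support {M T : X.Modules} (g : M ⟶ T) [Epi g] (hM : Coh.IsQCoh M) {S : Set X}
    (hS : S.Finite) (hcl : ∀ z ∈ S, IsClosed ({z} : Set X)) (h : ∀ y, y ∉ S → Subsingleton (M.presheaf.stalk y)) :
    Coh.IsQCoh T := by
  classical
  haveI : M.IsQuasicoherent := hM
  have hT : ∀ y, y ∉ S → Subsingleton (T.presheaf.stalk y) := fun y hy => by
    haveI : Subsingleton ((DerSch.stalkFunctor X y).obj M) := h y hy
    exact ((ModuleCat.epi_iff_surjective _).1 (inferInstance : Epi ((DerSch.stalkFunctor X y).map g))).subsingleton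
  have hfl := flasque_of_finite_support (H10Coh.sh T) hS hcl hT
  -- powers of a non-invertible function kill the stalks
  have hkill : ∀ (W : X.Opens) (t : Γ(X, W)) (y : X) (hy : y ∈ W), y ∈ S → y ∉ X.basicOpen t →
      ∀ v : T.presheaf.stalk y, ∃ n : ℕ, (X.presheaf.germ W y hy t) ^ n • v = 0 := by
    intro W t y hy hyS hyt v
    obtain ⟨m, hm⟩ := (ModuleCat.epi_iff_surjective _).1 (inferInstance : Epi ((DerSch.stalkFunctor X y).map g)) v
    obtain ⟨U, hyU, s, rfl⟩ := M.presheaf.exists_germ_eq m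
    have hclS : IsClosed (S \ {y} : Set X) := by
      rw [← Set.biUnion_of_singleton (S \ {y})]
      exact (hS.subset Set.sdiff_subset).isClosed_biUnion fun z hz => hcl z hz.1
    obtain ⟨V, hV, hyV, hle⟩ := exists_isAffineOpen_mem_and_subset
      (U := (U ⊓ W ⊓ ⟨(S \ {y} : Set X)ᶜ, hclS.isOpen_compl⟩ : X.Opens)) (x := y)
      ⟨⟨hyU, hy⟩, fun hh => hh.2 rfl⟩
    have hVU : V ≤ U := fun a ha => (hle ha).1.1
    have hVW : V ≤ W := fun a ha => (hle ha).1.2
    obtain ⟨n, hn⟩ := H10Coh.exists_pow_smul_eq_zero_of_isCompact M hV.isCompact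
      (X.presheaf.map (homOfLE hVW).op t) (M.presheaf.map (homOfLE hVU).op s)
      (section_eq_zero (H10Coh.sh M) (fun z hz => h z fun hzS => by
        by_cases hzy : z = y
        · subst hzy
          rw [Scheme.basicOpen_res] at hz
          exact hyt hz.2
        · exact (hle (X.basicOpen_le _ hz)).2 ⟨hzS, hzy⟩) _)
    refine ⟨n, ?_⟩
    have h1 : (X.presheaf.germ W y hy t) ^ n • (M.presheaf.germ U y hyU s) = 0 := by
      rw [← TopCat.Presheaf.germ_res_apply M.presheaf (homOfLE hVU) y hyV s,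
        ← TopCat.Presheaf.germ_res_apply X.presheaf (homOfLE hVW) y hyV t, ← map_pow, ← H17.AssPts.germ_smul', hn,
        map_zero]
    rw [← hm]
    exact (map_smul ((DerSch.stalkFunctor X y).map g).hom _ _).symm.trans
      ((congrArg _ h1).trans (map_zero ((DerSch.stalkFunctor X y).map g).hom))
  refine H10Coh.isQuasicoherent_of_localizing T (fun W hW t s hs => ?_) fun W hW t s' => ?_
  · choose f hf using fun (y : S) => (if hy : y.1 ∈ W ∧ y.1 ∉ X.basicOpen t then
      (hkill W t y.1 hy.1 y.2 hy.2 (T.presheaf.germ W y.1 hy.1 s)).imp fun n hn => fun _ _ => hn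
      else ⟨0, fun h1 h2 => absurd ⟨h1, h2⟩ hy⟩ :
      ∃ n : ℕ, ∀ (h1 : y.1 ∈ W) (_ : y.1 ∉ X.basicOpen t),
        (X.presheaf.germ W y.1 h1 t) ^ n • T.presheaf.germ W y.1 h1 s = 0)
    haveI : Fintype S := hS.fintype
    refine ⟨Finset.univ.sup f, TopCat.Presheaf.section_ext (⟨T.presheaf, T.isSheaf⟩ : TopCat.Sheaf Ab.{u} X) W _ _
      fun y hy => ?_⟩
    show T.presheaf.germ W y hy _ = T.presheaf.germ W y hy 0
    rw [map_zero, H17.AssPts.germ_smul', map_pow]
    by_cases hyS : y ∈ S
    · by_cases hyt : y ∈ X.basicOpen t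
      · rw [← TopCat.Presheaf.germ_res_apply T.presheaf (homOfLE (X.basicOpen_le t)) y hyt s]
        erw [hs]
        rw [map_zero, smul_zero]
      · rw [← Nat.sub_add_cancel (Finset.le_sup (f := f) (Finset.mem_univ (⟨y, hyS⟩ : S))), pow_add, mul_smul,
          hf ⟨y, hyS⟩ hy hyt, smul_zero]
    · exact (hT y hyS).elim _ _
  · obtain ⟨s, hs⟩ := hfl (X.basicOpen_le t) s'
    refine ⟨0, s, ?_⟩
    rw [pow_zero, map_one, one_smul]
    exact hs

/-- A subobject above a coherent one with finitely supported quotient is coherent. -/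
theorem isCoh_of_le [IsLocallyNoetherian X] {E : X.Modules} (hE : Coh.IsCoh E) {B A : Subobject E} (hle : B ≤ A)
    (hB : Coh.IsQCoh (B : X.Modules)) {S : Set X} (hS : S.Finite) (hcl : ∀ z ∈ S, IsClosed ({z} : Set X))
    (h : ∀ y, y ∉ S → Subsingleton ((cokernel B.arrow).presheaf.stalk y)) : Coh.IsCoh (A : X.Modules) := by
  have hC := H10Coh.isCoh_cokernel B.arrow hB hE
  let g : cokernel B.arrow ⟶ cokernel A.arrow := cokernel.desc _ (cokernel.π A.arrow) (by
    rw [← Subobject.ofLE_arrow hle, Category.assoc, cokernel.condition, comp_zero])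
  haveI : Epi g := epi_of_epi_fac (cokernel.π_desc B.arrow _ _ : cokernel.π B.arrow ≫ g = cokernel.π A.arrow)
  have hQ := isQCoh_of_epi_finite_support g hC.1 hS hcl h
  exact H10Coh.isCoh_of_iso ((Abelian.monoIsKernelOfCokernel _ (cokernelIsCokernel A.arrow)).conePointUniqueUpToIso
    (kernelIsKernel (cokernel.π A.arrow))).symm (H10Coh.isCoh_kernel (cokernel.π A.arrow) hE hQ)

end Groth.Agent.H25Par
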