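import Groth.Prelude.Def_ParBun
import Mathlib.MeasureTheory.Integral.Bochner.Set
import Mathlib.MeasureTheory.Measure.Lebesgue.Basic

/-! # Weighted sums as integrals of step functions -/

set_option autoImplicit false

universe v u

open CategoryTheory CategoryTheory.Limits MeasureTheory

namespace Groth.Agent.H25Par

/-- A weighted sum is nonnegative if all its step sums are. -/
theorem weighted_nonneg {ι : Type*} [Fintype ι] (K : ℝ) (e w : ι → ℝ) (hw : ∀ i, 0 ≤ w i ∧ w i ≤ 1)
    (h : ∀ a ∈ Set.Ioc (0 : ℝ) 1, 0 ≤ K + ∑ i with a ≤ w i, e i) : 0 ≤ K + ∑ i, e i * w i := by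
  classical
  have hfin : IsFiniteMeasure (volume.restrict (Set.Ioc (0 : ℝ) 1)) := ⟨by simp⟩
  have h0 : 0 ≤ ∫ a in Set.Ioc (0 : ℝ) 1, (K + ∑ i, (Set.Iic (w i)).indicator (fun _ => e i) a) := by
    refine setIntegral_nonneg measurableSet_Ioc fun a ha => ?_
    refine (h a ha).trans (le_of_eq ?_)
    rw [Finset.sum_filter]
    simp [Set.indicator_apply, Set.mem_Iic]
  have hi : ∀ i : ι, Integrable ((Set.Iic (w i)).indicator fun _ => e i) (volume.restrict (Set.Ioc (0 : ℝ) 1)) :=
    fun i => (integrable_const (e i)).indicator measurableSet_Iic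
  rw [integral_add (integrable_const K) (integrable_finsetSum _ fun i _ => hi i),
    integral_finsetSum _ fun i _ => hi i, setIntegral_const] at h0
  refine h0.trans (le_of_eq ?_)
  congr 1
  · simp [Measure.real]
  · refine Finset.sum_congr rfl fun i _ => ?_
    rw [setIntegral_indicator measurableSet_Iic, Set.Ioc_inter_Iic, min_eq_right (hw i).2, setIntegral_const]
    simp [Measure.real, (hw i).1, mul_comm]

section index

variable {C : Type u} [Category.{v} C] {E : C} (𝓔 : ParSh.Str E)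

/-- The index of the piece of parameter `a`. -/
theorem exists_index (a : ℝ) : ∃ t : Fin (𝓔.l + 2), ∀ j : Fin (𝓔.l + 1), a ≤ 𝓔.wt j ↔ t ≤ j.castSucc := by
  classical
  let s := Finset.univ.filter fun j : Fin (𝓔.l + 1) => a ≤ 𝓔.wt j
  by_cases hs : s.Nonempty
  · have hmem : a ≤ 𝓔.wt (s.min' hs) := (Finset.mem_filter.1 (s.min'_mem hs)).2
    refine ⟨(s.min' hs).castSucc, fun j => ⟨fun hj => ?_, fun hj => ?_⟩⟩
    · exact Fin.castSucc_le_castSucc_iff.2 (s.min'_le j (Finset.mem_filter.2 ⟨Finset.mem_univ _, hj⟩))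
    · exact hmem.trans (𝓔.wt_strictMono.monotone (Fin.castSucc_le_castSucc_iff.1 hj))
  · refine ⟨Fin.last _, fun j => ⟨fun hj => absurd ⟨j, Finset.mem_filter.2 ⟨Finset.mem_univ _, hj⟩⟩ hs,
      fun hj => absurd hj (not_le.2 (Fin.castSucc_lt_last j))⟩⟩

variable [HasImages C] [HasBinaryCoproducts C] [HasInitial C] [InitialMonoClass C]

theorem at_eq {a : ℝ} {t : Fin (𝓔.l + 2)} (h : ∀ j : Fin (𝓔.l + 1), a ≤ 𝓔.wt j ↔ t ≤ j.castSucc) :
    𝓔.at a = 𝓔.pieceX t := by
  revert h
  refine Fin.lastCases (motive := fun t => (∀ j : Fin (𝓔.l + 1), a ≤ 𝓔.wt j ↔ t ≤ j.castSucc) → 𝓔.at a = 𝓔.pieceX t)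
    (fun h => ?_) (fun i h => ?_) t
  · rw [ParSh.Str.pieceX_last]
    exact 𝓔.at_eq_bot fun j => not_le.1 fun hj => absurd ((h j).1 hj) (not_le.2 (Fin.castSucc_lt_last j))
  · rw [ParSh.Str.pieceX_castSucc]
    exact 𝓔.at_eq_piece i ((h i).2 le_rfl) fun j hj => not_le.1 fun hj' =>
      absurd ((h j).1 hj') (not_le.2 (Fin.castSucc_lt_castSucc_iff.2 hj))

end index

/-- Telescoping above an index. -/
theorem sum_diff_filter {n : ℕ} (f : Fin (n + 2) → ℝ) (t : Fin (n + 2)) :
    ∑ j : Fin (n + 1) with t ≤ j.castSucc, (f j.castSucc - f j.succ) = f t - f (Fin.last _) := by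
  classical
  induction t using Fin.reverseInduction with
  | last =>
    rw [sub_self]
    refine Finset.sum_eq_zero fun j hj => absurd (Finset.mem_filter.1 hj).2 (not_le.2 (Fin.castSucc_lt_last j))
  | cast i ih =>
    have : (Finset.univ.filter fun j : Fin (n + 1) => i.castSucc ≤ j.castSucc) =
        insert i (Finset.univ.filter fun j : Fin (n + 1) => i.succ ≤ j.castSucc) := by
      ext j
      simp only [Finset.mem_filter, Finset.mem_univ, true_and, Finset.mem_insert, Fin.le_def, Fin.val_castSucc,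
        Fin.val_succ, Fin.ext_iff]
      omega
    rw [this, Finset.sum_insert (by simp [Fin.le_def]), ih]
    ring

end Groth.Agent.H25Par
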