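import Groth.Agent.H25Par.TwistSeq
import Groth.Agent.H25Par.SubCoh
import Groth.Agent.H25Par.Weights
import Groth.Agent.H25Euler.ParAb
import Groth.Agent.H25Euler.ParPoly

/-! # Parabolic degrees and saturation -/

set_option autoImplicit false

universe u

open CategoryTheory CategoryTheory.Limits AlgebraicGeometry TopologicalSpace Opposite

namespace Groth.Agent.H25Par

variable {k : Type u} [Field k] {X : Scheme.{u}} [X.Over (Spec (CommRingCat.of k))]
  [IsProper (X ↘ Spec (CommRingCat.of k))] [IsIntegral X]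

theorem along_coinduced (I : X.IdealSheafData) {E V : X.Modules} {𝓔 : ParSh.Str E} (h : 𝓔.Along I)
    (q : E ⟶ V) [Epi q] : (𝓔.coinduced q).Along I := by
  show imageSubobject (𝓔.bot.arrow ≫ q) = ParSh.twistSub I V
  rw [show 𝓔.bot = ParSh.twistSub I E from h]
  refine le_antisymm ?_ (twistSub_le_image I q)
  obtain ⟨w, hw⟩ := shortExact_twistSub I V
  obtain ⟨w', -⟩ := shortExact_twistSub I E
  haveI := hw.mono_f
  have h0 : ((ParSh.twistSub I E).arrow ≫ q) ≫ resProj I V = 0 := by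
    rw [Category.assoc, resProj_natural, ← Category.assoc, w', zero_comp]
  exact imageSubobject_le _ (hw.exact.lift _ h0) (hw.exact.lift_f _ h0)

theorem along_induced [IsLocallyNoetherian X] (I : X.IdealSheafData) {F V : X.Modules} {𝓕 : ParSh.Str F} (h : 𝓕.Along I)
    (ι : V ⟶ F) [Mono ι] (hsat : FlatMod.IsFinLocFree (cokernel ι)) : (𝓕.induced ι).Along I := by
  haveI := mono_resDMap I ι hsat
  show (Subobject.pullback ι).obj 𝓕.bot = ParSh.twistSub I V
  rw [show 𝓕.bot = ParSh.twistSub I F from h]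
  obtain ⟨w, hw⟩ := shortExact_twistSub I V
  obtain ⟨w', hw'⟩ := shortExact_twistSub I F
  haveI := hw.mono_f
  haveI := hw'.mono_f
  refine le_antisymm ?_ ?_
  · have h0 : ((Subobject.pullback ι).obj (ParSh.twistSub I F)).arrow ≫ resProj I V = 0 := by
      rw [← cancel_mono (ParSh.resDMap I ι), zero_comp, Category.assoc, ← resProj_natural, ← Category.assoc,
        ← (Subobject.isPullback ι (ParSh.twistSub I F)).w, Category.assoc, w', comp_zero]
    exact Subobject.le_of_comm (hw.exact.lift _ h0) (hw.exact.lift_f _ h0)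
  · have h0 : ((ParSh.twistSub I V).arrow ≫ ι) ≫ resProj I F = 0 := by
      rw [Category.assoc, resProj_natural, ← Category.assoc, w, zero_comp]
    let sq := Subobject.isPullback ι (ParSh.twistSub I F)
    exact Subobject.le_of_comm (sq.lift (hw'.exact.lift _ h0) (ParSh.twistSub I V).arrow (hw'.exact.lift_f _ h0))
      (sq.lift_snd _ _ _)

variable [IsNoetherian X]

theorem euler_twistSub (hdim : topologicalKrullDim X ≤ 1) (I : X.IdealSheafData) (hD : FGA.IsEffCartier I)
    {V : X.Modules} {r : ℕ} (hV : FlatMod.IsFinLocFreeOfRank r V) :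
    Coh.IsCoh ((ParSh.twistSub I V : Subobject V) : X.Modules) ∧
      Curv2.euler k X V - Curv2.euler k X ((ParSh.twistSub I V : Subobject V) : X.Modules) =
        (Module.finrank k (ParSh.fibD X I V) : ℤ) ∧
      ∀ y, y ∉ (I.support : Set X) → Subsingleton ((cokernel (ParSh.twistSub I V).arrow).presheaf.stalk y) := by
  obtain ⟨w, hw⟩ := shortExact_twistSub I V
  have hVc : Coh.IsCoh V := H16Derived.KFlat.Stalk.isCoh_of_isFinLocFree fun y => let ⟨U, hU⟩ := hV y; ⟨U, r, hU⟩
  have hR : Coh.IsCoh (ParSh.resD I V) := H10Coh.TT.isCoh_tensorMod hVc (isCoh_quotMod I)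
  have hT : Coh.IsCoh ((ParSh.twistSub I V : Subobject V) : X.Modules) :=
    H10Coh.isCoh_of_iso ((kernelIsKernel (resProj I V)).conePointUniqueUpToIso hw.fIsKernel)
      (H10Coh.isCoh_kernel (resProj I V) hVc hR.1)
  obtain ⟨hSfin, hScl⟩ := finite_of_isClosed_of_notMem hdim I.support.isClosed (genericPoint_notMem hD)
  refine ⟨hT, ?_, fun y hy => ?_⟩
  · have hadd := H25Euler.euler_add (k := k) (S := ShortComplex.mk (ParSh.twistSub I V).arrow (resProj I V) w) hw hT hVc hR
    dsimp only at hadd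
    have hv : ∀ p, 1 ≤ p → Subsingleton (Coh.HH X (ParSh.resD I V) p) := fun p hp =>
      subsingleton_HH_of_finite_support _ hSfin hScl (fun y hy => subsingleton_stalk_resD I V hy) hp
    rw [hadd, add_sub_cancel_left, H25Euler.euler_eq_sum _ 1 hv, Finset.sum_range_one, pow_zero, one_mul]
  · haveI := subsingleton_stalk_resD I V hy
    exact subsingleton_stalk_of_epi ((cokernelIsCokernel (ParSh.twistSub I V).arrow).coconePointUniqueUpToIso
      hw.gIsCokernel).inv this

theorem rank_piece (k : Type u) [Field k] [X.Over (Spec (CommRingCat.of k))]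
    [IsProper (X ↘ Spec (CommRingCat.of k))] [Smooth (X ↘ Spec (CommRingCat.of k))] (hdim : topologicalKrullDim X ≤ 1) (I : X.IdealSheafData) (hD : FGA.IsEffCartier I)
    {V : X.Modules} {r : ℕ} (hV : FlatMod.IsFinLocFreeOfRank r V) {𝓥 : ParSh.Str V} (h : 𝓥.Along I)
    (j : Fin (𝓥.l + 2)) : FlatMod.IsFinLocFreeOfRank r ((𝓥.pieceX j : Subobject V) : X.Modules) := by
  obtain ⟨hSfin, hScl⟩ := finite_of_isClosed_of_notMem hdim I.support.isClosed (genericPoint_notMem hD)
  obtain ⟨hT, -, hst⟩ := euler_twistSub (k := k) hdim I hD hV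
  have hf : FlatMod.IsFinLocFree V := fun y => let ⟨U, hU⟩ := hV y; ⟨U, r, hU⟩
  have hA := isCoh_of_le (H16Derived.KFlat.Stalk.isCoh_of_isFinLocFree hf)
    (show ParSh.twistSub I V ≤ 𝓥.pieceX j from h ▸ 𝓥.bot_le_pieceX j) hT.1 hSfin hScl hst
  obtain ⟨c, hc⟩ := exists_rank k hdim hA (H25Euler.isTorsionFree_of_mono (𝓥.pieceX j).arrow (isTorsionFree_of_locFree hf))
  have hη : genericPoint X ∉ CohB1.support (cokernel (𝓥.pieceX j).arrow) := fun hmem =>
    genericPoint_notMem hD (H25Euler.support_cokernel_piece h j hmem).2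
  obtain ⟨-, -, r₁⟩ := finrank_stalk hc (genericPoint X)
  obtain ⟨-, -, r₂⟩ := finrank_stalk hV (genericPoint X)
  let T := DerSch.stalkFunctor X (genericPoint X)
  have hS : (ShortComplex.mk (𝓥.pieceX j).arrow (cokernel.π _) (cokernel.condition _)).ShortExact :=
    { exact := ShortComplex.exact_cokernel _ }
  have hS' := hS.map_of_exact T
  haveI : Mono (T.map (𝓥.pieceX j).arrow) := hS'.mono_f
  haveI : Epi (T.map (𝓥.pieceX j).arrow) := hS'.exact.epi_f (((H25Euler.notMem_support_iff _ _).1 hη).eq_of_tgt _ _)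
  haveI := isIso_of_mono_of_epi (T.map (𝓥.pieceX j).arrow)
  have := (asIso (T.map (𝓥.pieceX j).arrow)).toLinearEquiv.finrank_eq
  obtain rfl : c = r := r₁.symm.trans (this.trans r₂)
  exact hc

theorem parDeg_le [Smooth (X ↘ Spec (CommRingCat.of k))] (hdim : topologicalKrullDim X ≤ 1) (I : X.IdealSheafData) (hD : FGA.IsEffCartier I)
    {E F V V' : X.Modules} {r'' : ℕ} (𝓔 : ParSh.Str E) (h𝓔 : 𝓔.Along I) (𝓕 : ParSh.Str F) (h𝓕 : 𝓕.Along I)
    (q : E ⟶ V) [Epi q] (u : V ⟶ V') [Mono u] (ι : V' ⟶ F) [Mono ι] (hφ : ParSh.IsParHom 𝓔 𝓕 (q ≫ u ≫ ι))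
    (hV : FlatMod.IsFinLocFreeOfRank r'' V) (hV' : FlatMod.IsFinLocFreeOfRank r'' V')
    (hsat : FlatMod.IsFinLocFree (cokernel ι)) :
    (𝓔.coinduced q).parDeg k X r'' ≤ (𝓕.induced ι).parDeg k X r'' := by
  classical
  let 𝓥 := 𝓔.coinduced q
  let 𝓥' := 𝓕.induced ι
  have hA : 𝓥.Along I := along_coinduced I h𝓔 q
  have hA' : 𝓥'.Along I := along_induced I h𝓕 ι hsat
  let f : Fin (𝓥.l + 2) → ℝ := fun j => (Curv2.euler k X ((𝓥.pieceX j : Subobject V) : X.Modules) : ℝ)
  let f' : Fin (𝓥'.l + 2) → ℝ := fun j => (Curv2.euler k X ((𝓥'.pieceX j : Subobject V') : X.Modules) : ℝ)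
  have hpar : ∀ {W : X.Modules} (𝓦 : ParSh.Str W) , 𝓦.parWt k X = ∑ j : Fin (𝓦.l + 1),
      ((Curv2.euler k X ((𝓦.pieceX j.castSucc : Subobject W) : X.Modules) : ℝ) -
        (Curv2.euler k X ((𝓦.pieceX j.succ : Subobject W) : X.Modules) : ℝ)) * 𝓦.wt j := fun 𝓦 =>
    Finset.sum_congr rfl fun j _ => by rw [ParSh.Str.pieceX_castSucc, mul_comm]
  have hb : ∀ {W : X.Modules} (_ : FlatMod.IsFinLocFreeOfRank r'' W) (𝓦 : ParSh.Str W) (_ : 𝓦.Along I),
      (Curv2.euler k X ((𝓦.pieceX (Fin.last _) : Subobject W) : X.Modules) : ℝ) =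
        (Curv2.euler k X W : ℝ) - (Module.finrank k (ParSh.fibD X I W) : ℝ) := fun {W} hW 𝓦 h => by
    rw [ParSh.Str.pieceX_last, show 𝓦.bot = ParSh.twistSub I W from h]
    have := (euler_twistSub (k := k) hdim I hD hW).2.1
    have h2 : (Curv2.euler k X W : ℝ) - (Curv2.euler k X ((ParSh.twistSub I W : Subobject W) : X.Modules) : ℝ) =
        (Module.finrank k (ParSh.fibD X I W) : ℝ) := by exact_mod_cast this
    linarith
  have hfin : (Module.finrank k (ParSh.fibD X I V) : ℝ) = (Module.finrank k (ParSh.fibD X I V') : ℝ) := by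
    exact_mod_cast finrank_fibD_eq (k := k) hdim I hD hV hV'
  have key : 0 ≤ ((Curv2.euler k X V' : ℝ) - (Curv2.euler k X V : ℝ)) +
      ∑ i : Fin (𝓥.l + 1) ⊕ Fin (𝓥'.l + 1),
        (Sum.elim (fun j => -(f j.castSucc - f j.succ)) (fun j => f' j.castSucc - f' j.succ) i) *
          (Sum.elim 𝓥.wt 𝓥'.wt i) := by
    refine weighted_nonneg _ _ _ (fun i => ?_) fun a ha => ?_
    · rcases i with j | j
      · exact ⟨𝓥.wt_nonneg.trans (𝓥.wt_strictMono.monotone (Fin.zero_le j)),
          ((𝓥.wt_strictMono.monotone (Fin.le_last j)).trans 𝓥.wt_lt_one.le)⟩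
      · exact ⟨𝓥'.wt_nonneg.trans (𝓥'.wt_strictMono.monotone (Fin.zero_le j)),
          ((𝓥'.wt_strictMono.monotone (Fin.le_last j)).trans 𝓥'.wt_lt_one.le)⟩
    obtain ⟨t, ht⟩ := exists_index 𝓥 a
    obtain ⟨t', ht'⟩ := exists_index 𝓥' a
    rw [show (Finset.univ.filter fun i : Fin (𝓥.l + 1) ⊕ Fin (𝓥'.l + 1) => a ≤ Sum.elim 𝓥.wt 𝓥'.wt i) =
        (Finset.univ.filter fun j : Fin (𝓥.l + 1) => t ≤ j.castSucc).disjSum
          (Finset.univ.filter fun j : Fin (𝓥'.l + 1) => t' ≤ j.castSucc) from Finset.ext fun i => by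
        rcases i with j | j
        · simpa using ht j
        · simpa using ht' j,
      Finset.sum_disjSum]
    simp only [Sum.elim_inl, Sum.elim_inr]
    rw [Finset.sum_neg_distrib, sum_diff_filter f, sum_diff_filter f']
    have hle : (𝓥.pieceX t : Subobject V) ≤ (Subobject.pullback u).obj (𝓥'.pieceX t') := by
      rw [show 𝓥.pieceX t = _ from H25Euler.coinduced_pieceX 𝓔 q t, show 𝓥'.pieceX t' = _ from H25Euler.induced_pieceX 𝓕 ι t']
      refine imageSubobject_le _ (Subobject.factorThru _ _ ?_) (Subobject.factorThru_arrow _ _ _)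
      rw [Limits.pullback_factors_iff, Limits.pullback_factors_iff, Category.assoc, Category.assoc]
      have := hφ a ha.1.le ha.2
      rw [at_eq 𝓔 ht, at_eq 𝓕 ht'] at this
      exact this
    let j := Subobject.ofLE _ _ hle ≫ Subobject.pullbackπ u (𝓥'.pieceX t')
    haveI : Mono (Subobject.pullbackπ u (𝓥'.pieceX t')) := (Subobject.isPullback u _).mono_fst_of_mono
    have hmono := euler_le_of_mono (k := k) hdim (rank_piece k hdim I hD hV hA t)
      (rank_piece k hdim I hD hV' hA' t') j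
    have hmono' : f t ≤ f' t' := Int.cast_le.2 hmono
    have e1 : f (Fin.last _) = _ := hb hV 𝓥 hA
    have e2 : f' (Fin.last _) = _ := hb hV' 𝓥' hA'
    linarith
  rw [Fintype.sum_sum_type] at key
  simp only [Sum.elim_inl, Sum.elim_inr, neg_mul, Finset.sum_neg_distrib] at key
  simp only [ParSh.Str.parDeg, Curv2.deg, Int.cast_sub]
  show _ + 𝓥.parWt k X ≤ _ + 𝓥'.parWt k X
  rw [hpar 𝓥, hpar 𝓥']
  linarith

end Groth.Agent.H25Par
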